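import Cfsg.Agent.Lib.Helper9.TCData.J1A0.Main

set_option autoImplicit false
set_option maxRecDepth 1000000

namespace Cfsg.Agent.Helper9.TCData.J1A0
open Cfsg.Agent.Helper9.TC2

theorem e0_8 : allRange 21104 2422 (fun u => chkE tab 0 u) = true := by decide +kernel

theorem e0_9 : allRange 23526 2382 (fun u => chkE tab 0 u) = true := by decide +kernel

theorem e0_10 : allRange 25908 2286 (fun u => chkE tab 0 u) = true := by decide +kernel

theorem e0_11 : allRange 28194 2420 (fun u => chkE tab 0 u) = true := by decide +kernel

theorem e0_12 : allRange 30614 2167 (fun u => chkE tab 0 u) = true := by decide +kernel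

theorem e0_13 : allRange 32781 2859 (fun u => chkE tab 0 u) = true := by decide +kernel

theorem e0_14 : allRange 35640 2495 (fun u => chkE tab 0 u) = true := by decide +kernel

theorem e0_15 : allRange 38135 2286 (fun u => chkE tab 0 u) = true := by decide +kernel


end Cfsg.Agent.Helper9.TCData.J1A0
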