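import Cfsg.Agent.Lib.Helper9.TCData.J1A0.Main

set_option autoImplicit false
set_option maxRecDepth 1000000

namespace Cfsg.Agent.Helper9.TCData.J1A0
open Cfsg.Agent.Helper9.TC2

theorem e3_8 : allRange 49169 1210 (fun u => chkE tab 3 u) = true := by decide +kernel

theorem e3_9 : allRange 50379 931 (fun u => chkE tab 3 u) = true := by decide +kernel

theorem e3_10 : allRange 51310 4930 (fun u => chkE tab 3 u) = true := by decide +kernel

theorem e3_11 : allRange 56240 1155 (fun u => chkE tab 3 u) = true := by decide +kernel

theorem e3_12 : allRange 57395 585 (fun u => chkE tab 3 u) = true := by decide +kernel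

theorem e3_13 : allRange 57980 3044 (fun u => chkE tab 3 u) = true := by decide +kernel

theorem e3_14 : allRange 61024 431 (fun u => chkE tab 3 u) = true := by decide +kernel

theorem e3_15 : allRange 61455 893 (fun u => chkE tab 3 u) = true := by decide +kernel


end Cfsg.Agent.Helper9.TCData.J1A0
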