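import Cfsg.Agent.Lib.Helper9.TCData.J1A0.Main

set_option autoImplicit false
set_option maxRecDepth 1000000

namespace Cfsg.Agent.Helper9.TCData.J1A0
open Cfsg.Agent.Helper9.TC2

theorem f_8 : allRange 4576 572 (fun u => chkFin tab u) = true := by decide +kernel

theorem f_9 : allRange 5148 572 (fun u => chkFin tab u) = true := by decide +kernel

theorem f_10 : allRange 5720 572 (fun u => chkFin tab u) = true := by decide +kernel

theorem f_11 : allRange 6292 572 (fun u => chkFin tab u) = true := by decide +kernel

theorem f_12 : allRange 6864 572 (fun u => chkFin tab u) = true := by decide +kernel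

theorem f_13 : allRange 7436 572 (fun u => chkFin tab u) = true := by decide +kernel

theorem f_14 : allRange 8008 572 (fun u => chkFin tab u) = true := by decide +kernel

theorem f_15 : allRange 8580 572 (fun u => chkFin tab u) = true := by decide +kernel


end Cfsg.Agent.Helper9.TCData.J1A0
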