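import Cfsg.Agent.Lib.Helper9.TCData.J1A0.Main

set_option autoImplicit false
set_option maxRecDepth 1000000

namespace Cfsg.Agent.Helper9.TCData.J1A0
open Cfsg.Agent.Helper9.TC2

theorem e0_16 : allRange 40421 1949 (fun u => chkE tab 0 u) = true := by decide +kernel

theorem e0_17 : allRange 42370 955 (fun u => chkE tab 0 u) = true := by decide +kernel

theorem e0_18 : allRange 43325 1253 (fun u => chkE tab 0 u) = true := by decide +kernel

theorem e0_19 : allRange 44578 1586 (fun u => chkE tab 0 u) = true := by decide +kernel

theorem e0_20 : allRange 46164 1629 (fun u => chkE tab 0 u) = true := by decide +kernel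

theorem e0_21 : allRange 47793 2272 (fun u => chkE tab 0 u) = true := by decide +kernel

theorem e0_22 : allRange 50065 1653 (fun u => chkE tab 0 u) = true := by decide +kernel

theorem e0_23 : allRange 51718 514 (fun u => chkE tab 0 u) = true := by decide +kernel


end Cfsg.Agent.Helper9.TCData.J1A0
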