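import Cfsg.Agent.Lib.Helper9.TCData.J1A0.Main

set_option autoImplicit false
set_option maxRecDepth 1000000

namespace Cfsg.Agent.Helper9.TCData.J1A0
open Cfsg.Agent.Helper9.TC2

theorem f_72 : allRange 41184 572 (fun u => chkFin tab u) = true := by decide +kernel

theorem f_73 : allRange 41756 572 (fun u => chkFin tab u) = true := by decide +kernel

theorem f_74 : allRange 42328 572 (fun u => chkFin tab u) = true := by decide +kernel

theorem f_75 : allRange 42900 572 (fun u => chkFin tab u) = true := by decide +kernel

theorem f_76 : allRange 43472 572 (fun u => chkFin tab u) = true := by decide +kernel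

theorem f_77 : allRange 44044 572 (fun u => chkFin tab u) = true := by decide +kernel

theorem f_78 : allRange 44616 572 (fun u => chkFin tab u) = true := by decide +kernel

theorem f_79 : allRange 45188 572 (fun u => chkFin tab u) = true := by decide +kernel


end Cfsg.Agent.Helper9.TCData.J1A0
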