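import Cfsg.Agent.Lib.Helper9.TCData.J1A0.Main

set_option autoImplicit false
set_option maxRecDepth 1000000

namespace Cfsg.Agent.Helper9.TCData.J1A0
open Cfsg.Agent.Helper9.TC2

theorem f_80 : allRange 45760 572 (fun u => chkFin tab u) = true := by decide +kernel

theorem f_81 : allRange 46332 572 (fun u => chkFin tab u) = true := by decide +kernel

theorem f_82 : allRange 46904 572 (fun u => chkFin tab u) = true := by decide +kernel

theorem f_83 : allRange 47476 572 (fun u => chkFin tab u) = true := by decide +kernel

theorem f_84 : allRange 48048 572 (fun u => chkFin tab u) = true := by decide +kernel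

theorem f_85 : allRange 48620 572 (fun u => chkFin tab u) = true := by decide +kernel

theorem f_86 : allRange 49192 572 (fun u => chkFin tab u) = true := by decide +kernel

theorem f_87 : allRange 49764 572 (fun u => chkFin tab u) = true := by decide +kernel


end Cfsg.Agent.Helper9.TCData.J1A0
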