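import Cfsg.Agent.Lib.Helper9.TCData.J1A0.Main

set_option autoImplicit false
set_option maxRecDepth 1000000

namespace Cfsg.Agent.Helper9.TCData.J1A0
open Cfsg.Agent.Helper9.TC2

theorem f_96 : allRange 54912 572 (fun u => chkFin tab u) = true := by decide +kernel

theorem f_97 : allRange 55484 572 (fun u => chkFin tab u) = true := by decide +kernel

theorem f_98 : allRange 56056 572 (fun u => chkFin tab u) = true := by decide +kernel

theorem f_99 : allRange 56628 572 (fun u => chkFin tab u) = true := by decide +kernel

theorem f_100 : allRange 57200 572 (fun u => chkFin tab u) = true := by decide +kernel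

theorem f_101 : allRange 57772 572 (fun u => chkFin tab u) = true := by decide +kernel

theorem f_102 : allRange 58344 176 (fun u => chkFin tab u) = true := by decide +kernel

theorem c_0 : allRange 0 2667 (fun u => chkCls tab u) = true := by decide +kernel


end Cfsg.Agent.Helper9.TCData.J1A0
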