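import Cfsg.Agent.Lib.Helper9.TCData.J1A0.Main

set_option autoImplicit false
set_option maxRecDepth 1000000

namespace Cfsg.Agent.Helper9.TCData.J1A0
open Cfsg.Agent.Helper9.TC2

theorem m1_8 : allRange 12080 1510 (fun u => chkM1 tab u) = true := by decide +kernel

theorem m1_9 : allRange 13590 1510 (fun u => chkM1 tab u) = true := by decide +kernel

theorem m1_10 : allRange 15100 1510 (fun u => chkM1 tab u) = true := by decide +kernel

theorem m1_11 : allRange 16610 1510 (fun u => chkM1 tab u) = true := by decide +kernel

theorem m1_12 : allRange 18120 1510 (fun u => chkM1 tab u) = true := by decide +kernel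

theorem m1_13 : allRange 19630 1510 (fun u => chkM1 tab u) = true := by decide +kernel

theorem m1_14 : allRange 21140 1510 (fun u => chkM1 tab u) = true := by decide +kernel

theorem m1_15 : allRange 22650 1510 (fun u => chkM1 tab u) = true := by decide +kernel


end Cfsg.Agent.Helper9.TCData.J1A0
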