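import Cfsg.Agent.Lib.Helper9.TCData.J1A0.Main

set_option autoImplicit false
set_option maxRecDepth 1000000

namespace Cfsg.Agent.Helper9.TCData.J1A0
open Cfsg.Agent.Helper9.TC2

theorem ma_1 : allRange 770 770 (fun u => chkAux tab aux u) = true := by decide +kernel

theorem ma_2 : allRange 1540 770 (fun u => chkAux tab aux u) = true := by decide +kernel

theorem ma_3 : allRange 2310 770 (fun u => chkAux tab aux u) = true := by decide +kernel

theorem ma_4 : allRange 3080 770 (fun u => chkAux tab aux u) = true := by decide +kernel

theorem ma_5 : allRange 3850 770 (fun u => chkAux tab aux u) = true := by decide +kernel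

theorem ma_6 : allRange 4620 770 (fun u => chkAux tab aux u) = true := by decide +kernel

theorem ma_7 : allRange 5390 770 (fun u => chkAux tab aux u) = true := by decide +kernel

theorem ma_8 : allRange 6160 770 (fun u => chkAux tab aux u) = true := by decide +kernel


end Cfsg.Agent.Helper9.TCData.J1A0
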