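import Cfsg.Agent.Lib.Helper9.TCData.J1A0.Main

set_option autoImplicit false
set_option maxRecDepth 1000000

namespace Cfsg.Agent.Helper9.TCData.J1A0
open Cfsg.Agent.Helper9.TC2

theorem ma_25 : allRange 19250 770 (fun u => chkAux tab aux u) = true := by decide +kernel

theorem ma_26 : allRange 20020 770 (fun u => chkAux tab aux u) = true := by decide +kernel

theorem ma_27 : allRange 20790 770 (fun u => chkAux tab aux u) = true := by decide +kernel

theorem ma_28 : allRange 21560 770 (fun u => chkAux tab aux u) = true := by decide +kernel

theorem ma_29 : allRange 22330 770 (fun u => chkAux tab aux u) = true := by decide +kernel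

theorem ma_30 : allRange 23100 770 (fun u => chkAux tab aux u) = true := by decide +kernel

theorem ma_31 : allRange 23870 770 (fun u => chkAux tab aux u) = true := by decide +kernel

theorem ma_32 : allRange 24640 770 (fun u => chkAux tab aux u) = true := by decide +kernel


end Cfsg.Agent.Helper9.TCData.J1A0
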