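import Cfsg.Agent.Lib.Helper9.TCData.J1A0.Main

set_option autoImplicit false
set_option maxRecDepth 1000000

namespace Cfsg.Agent.Helper9.TCData.J1A0
open Cfsg.Agent.Helper9.TC2

theorem ma_33 : allRange 25410 770 (fun u => chkAux tab aux u) = true := by decide +kernel

theorem ma_34 : allRange 26180 770 (fun u => chkAux tab aux u) = true := by decide +kernel

theorem ma_35 : allRange 26950 770 (fun u => chkAux tab aux u) = true := by decide +kernel

theorem ma_36 : allRange 27720 770 (fun u => chkAux tab aux u) = true := by decide +kernel

theorem ma_37 : allRange 28490 770 (fun u => chkAux tab aux u) = true := by decide +kernel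

theorem ma_38 : allRange 29260 770 (fun u => chkAux tab aux u) = true := by decide +kernel

theorem ma_39 : allRange 30030 770 (fun u => chkAux tab aux u) = true := by decide +kernel

theorem ma_40 : allRange 30800 770 (fun u => chkAux tab aux u) = true := by decide +kernel


end Cfsg.Agent.Helper9.TCData.J1A0
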