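import Cfsg.Agent.Lib.Helper9.TCData.J1A0.Main

set_option autoImplicit false
set_option maxRecDepth 1000000

namespace Cfsg.Agent.Helper9.TCData.J1A0
open Cfsg.Agent.Helper9.TC2

theorem ma_41 : allRange 31570 770 (fun u => chkAux tab aux u) = true := by decide +kernel

theorem ma_42 : allRange 32340 770 (fun u => chkAux tab aux u) = true := by decide +kernel

theorem ma_43 : allRange 33110 770 (fun u => chkAux tab aux u) = true := by decide +kernel

theorem ma_44 : allRange 33880 770 (fun u => chkAux tab aux u) = true := by decide +kernel

theorem ma_45 : allRange 34650 770 (fun u => chkAux tab aux u) = true := by decide +kernel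

theorem ma_46 : allRange 35420 770 (fun u => chkAux tab aux u) = true := by decide +kernel

theorem ma_47 : allRange 36190 770 (fun u => chkAux tab aux u) = true := by decide +kernel

theorem ma_48 : allRange 36960 770 (fun u => chkAux tab aux u) = true := by decide +kernel


end Cfsg.Agent.Helper9.TCData.J1A0
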