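import Cfsg.Agent.Lib.Helper9.TCData.J1A0.Main

set_option autoImplicit false
set_option maxRecDepth 1000000

namespace Cfsg.Agent.Helper9.TCData.J1A0
open Cfsg.Agent.Helper9.TC2

theorem e0_32 : allRange 59006 364 (fun u => chkE tab 0 u) = true := by decide +kernel

theorem e0_33 : allRange 59370 497 (fun u => chkE tab 0 u) = true := by decide +kernel

theorem e0_34 : allRange 59867 1091 (fun u => chkE tab 0 u) = true := by decide +kernel

theorem e0_35 : allRange 60958 873 (fun u => chkE tab 0 u) = true := by decide +kernel

theorem e0_36 : allRange 61831 648 (fun u => chkE tab 0 u) = true := by decide +kernel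

theorem e0_37 : allRange 62479 33 (fun u => chkE tab 0 u) = true := by decide +kernel

theorem e1_0 : allRange 0 8000 (fun u => chkE tab 1 u) = true := by decide +kernel

theorem e1_1 : allRange 8000 8005 (fun u => chkE tab 1 u) = true := by decide +kernel


end Cfsg.Agent.Helper9.TCData.J1A0
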