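import Cfsg.Agent.Lib.Helper9.TCData.J1A0.Main

set_option autoImplicit false
set_option maxRecDepth 1000000

namespace Cfsg.Agent.Helper9.TCData.J1A0
open Cfsg.Agent.Helper9.TC2

theorem ma_49 : allRange 37730 770 (fun u => chkAux tab aux u) = true := by decide +kernel

theorem ma_50 : allRange 38500 770 (fun u => chkAux tab aux u) = true := by decide +kernel

theorem ma_51 : allRange 39270 770 (fun u => chkAux tab aux u) = true := by decide +kernel

theorem ma_52 : allRange 40040 770 (fun u => chkAux tab aux u) = true := by decide +kernel

theorem ma_53 : allRange 40810 770 (fun u => chkAux tab aux u) = true := by decide +kernel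

theorem ma_54 : allRange 41580 770 (fun u => chkAux tab aux u) = true := by decide +kernel

theorem ma_55 : allRange 42350 770 (fun u => chkAux tab aux u) = true := by decide +kernel

theorem ma_56 : allRange 43120 770 (fun u => chkAux tab aux u) = true := by decide +kernel


end Cfsg.Agent.Helper9.TCData.J1A0
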