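import Cfsg.Agent.Lib.Helper9.TCData.J1A0.Main

set_option autoImplicit false
set_option maxRecDepth 1000000

namespace Cfsg.Agent.Helper9.TCData.J1A0
open Cfsg.Agent.Helper9.TC2

theorem ma_57 : allRange 43890 770 (fun u => chkAux tab aux u) = true := by decide +kernel

theorem ma_58 : allRange 44660 770 (fun u => chkAux tab aux u) = true := by decide +kernel

theorem ma_59 : allRange 45430 770 (fun u => chkAux tab aux u) = true := by decide +kernel

theorem ma_60 : allRange 46200 770 (fun u => chkAux tab aux u) = true := by decide +kernel

theorem ma_61 : allRange 46970 770 (fun u => chkAux tab aux u) = true := by decide +kernel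

theorem ma_62 : allRange 47740 770 (fun u => chkAux tab aux u) = true := by decide +kernel

theorem ma_63 : allRange 48510 770 (fun u => chkAux tab aux u) = true := by decide +kernel

theorem ma_64 : allRange 49280 770 (fun u => chkAux tab aux u) = true := by decide +kernel


end Cfsg.Agent.Helper9.TCData.J1A0
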