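import Cfsg.Agent.Lib.Helper9.TCData.J1A0.Main

set_option autoImplicit false
set_option maxRecDepth 1000000

namespace Cfsg.Agent.Helper9.TCData.J1A0
open Cfsg.Agent.Helper9.TC2

theorem ma_73 : allRange 56210 770 (fun u => chkAux tab aux u) = true := by decide +kernel

theorem ma_74 : allRange 56980 770 (fun u => chkAux tab aux u) = true := by decide +kernel

theorem ma_75 : allRange 57750 770 (fun u => chkAux tab aux u) = true := by decide +kernel

theorem m2_0 : allRange 0 145 (fun u => chkFix tab mwordsA u) = true := by decide +kernel

theorem m2_1 : allRange 145 145 (fun u => chkFix tab mwordsA u) = true := by decide +kernel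

theorem m2_2 : allRange 290 145 (fun u => chkFix tab mwordsA u) = true := by decide +kernel

theorem m2_3 : allRange 435 145 (fun u => chkFix tab mwordsA u) = true := by decide +kernel

theorem m2_4 : allRange 580 145 (fun u => chkFix tab mwordsA u) = true := by decide +kernel


end Cfsg.Agent.Helper9.TCData.J1A0
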