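import Cfsg.Agent.Lib.Helper9.TCData.J1A0.Main

set_option autoImplicit false
set_option maxRecDepth 1000000

namespace Cfsg.Agent.Helper9.TCData.J1A0
open Cfsg.Agent.Helper9.TC2

theorem m2_5 : allRange 725 145 (fun u => chkFix tab mwordsA u) = true := by decide +kernel

theorem m2_6 : allRange 870 145 (fun u => chkFix tab mwordsA u) = true := by decide +kernel

theorem m2_7 : allRange 1015 145 (fun u => chkFix tab mwordsA u) = true := by decide +kernel

theorem m2_8 : allRange 1160 145 (fun u => chkFix tab mwordsA u) = true := by decide +kernel

theorem m2_9 : allRange 1305 145 (fun u => chkFix tab mwordsA u) = true := by decide +kernel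

theorem m2_10 : allRange 1450 145 (fun u => chkFix tab mwordsA u) = true := by decide +kernel

theorem m2_11 : allRange 1595 145 (fun u => chkFix tab mwordsA u) = true := by decide +kernel

theorem m2_12 : allRange 1740 145 (fun u => chkFix tab mwordsA u) = true := by decide +kernel


end Cfsg.Agent.Helper9.TCData.J1A0
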