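import Cfsg.Agent.Lib.Helper9.TCData.J1A0.Main

set_option autoImplicit false
set_option maxRecDepth 1000000

namespace Cfsg.Agent.Helper9.TCData.J1A0
open Cfsg.Agent.Helper9.TC2

theorem m2_53 : allRange 7685 145 (fun u => chkFix tab mwordsA u) = true := by decide +kernel

theorem m2_54 : allRange 7830 145 (fun u => chkFix tab mwordsA u) = true := by decide +kernel

theorem m2_55 : allRange 7975 145 (fun u => chkFix tab mwordsA u) = true := by decide +kernel

theorem m2_56 : allRange 8120 145 (fun u => chkFix tab mwordsA u) = true := by decide +kernel

theorem m2_57 : allRange 8265 145 (fun u => chkFix tab mwordsA u) = true := by decide +kernel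

theorem m2_58 : allRange 8410 145 (fun u => chkFix tab mwordsA u) = true := by decide +kernel

theorem m2_59 : allRange 8555 145 (fun u => chkFix tab mwordsA u) = true := by decide +kernel

theorem m2_60 : allRange 8700 145 (fun u => chkFix tab mwordsA u) = true := by decide +kernel


end Cfsg.Agent.Helper9.TCData.J1A0
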