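import Cfsg.Agent.Lib.Helper9.TCData.J1A0.Main

set_option autoImplicit false
set_option maxRecDepth 1000000

namespace Cfsg.Agent.Helper9.TCData.J1A0
open Cfsg.Agent.Helper9.TC2

theorem m2_101 : allRange 14645 145 (fun u => chkFix tab mwordsA u) = true := by decide +kernel

theorem m2_102 : allRange 14790 145 (fun u => chkFix tab mwordsA u) = true := by decide +kernel

theorem m2_103 : allRange 14935 145 (fun u => chkFix tab mwordsA u) = true := by decide +kernel

theorem m2_104 : allRange 15080 145 (fun u => chkFix tab mwordsA u) = true := by decide +kernel

theorem m2_105 : allRange 15225 145 (fun u => chkFix tab mwordsA u) = true := by decide +kernel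

theorem m2_106 : allRange 15370 145 (fun u => chkFix tab mwordsA u) = true := by decide +kernel

theorem m2_107 : allRange 15515 145 (fun u => chkFix tab mwordsA u) = true := by decide +kernel

theorem m2_108 : allRange 15660 145 (fun u => chkFix tab mwordsA u) = true := by decide +kernel


end Cfsg.Agent.Helper9.TCData.J1A0
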