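import Cfsg.Agent.Lib.Helper9.TCData.J1A0.Main

set_option autoImplicit false
set_option maxRecDepth 1000000

namespace Cfsg.Agent.Helper9.TCData.J1A0
open Cfsg.Agent.Helper9.TC2

theorem m2_109 : allRange 15805 145 (fun u => chkFix tab mwordsA u) = true := by decide +kernel

theorem m2_110 : allRange 15950 145 (fun u => chkFix tab mwordsA u) = true := by decide +kernel

theorem m2_111 : allRange 16095 145 (fun u => chkFix tab mwordsA u) = true := by decide +kernel

theorem m2_112 : allRange 16240 145 (fun u => chkFix tab mwordsA u) = true := by decide +kernel

theorem m2_113 : allRange 16385 145 (fun u => chkFix tab mwordsA u) = true := by decide +kernel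

theorem m2_114 : allRange 16530 145 (fun u => chkFix tab mwordsA u) = true := by decide +kernel

theorem m2_115 : allRange 16675 145 (fun u => chkFix tab mwordsA u) = true := by decide +kernel

theorem m2_116 : allRange 16820 145 (fun u => chkFix tab mwordsA u) = true := by decide +kernel


end Cfsg.Agent.Helper9.TCData.J1A0
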