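import Cfsg.Agent.Lib.Helper9.TCData.J1A0.Main

set_option autoImplicit false
set_option maxRecDepth 1000000

namespace Cfsg.Agent.Helper9.TCData.J1A0
open Cfsg.Agent.Helper9.TC2

theorem m2_117 : allRange 16965 145 (fun u => chkFix tab mwordsA u) = true := by decide +kernel

theorem m2_118 : allRange 17110 145 (fun u => chkFix tab mwordsA u) = true := by decide +kernel

theorem m2_119 : allRange 17255 145 (fun u => chkFix tab mwordsA u) = true := by decide +kernel

theorem m2_120 : allRange 17400 145 (fun u => chkFix tab mwordsA u) = true := by decide +kernel

theorem m2_121 : allRange 17545 145 (fun u => chkFix tab mwordsA u) = true := by decide +kernel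

theorem m2_122 : allRange 17690 145 (fun u => chkFix tab mwordsA u) = true := by decide +kernel

theorem m2_123 : allRange 17835 145 (fun u => chkFix tab mwordsA u) = true := by decide +kernel

theorem m2_124 : allRange 17980 145 (fun u => chkFix tab mwordsA u) = true := by decide +kernel


end Cfsg.Agent.Helper9.TCData.J1A0
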