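import Cfsg.Agent.Lib.Helper9.TCData.J1A0.Main

set_option autoImplicit false
set_option maxRecDepth 1000000

namespace Cfsg.Agent.Helper9.TCData.J1A0
open Cfsg.Agent.Helper9.TC2

theorem m2_125 : allRange 18125 145 (fun u => chkFix tab mwordsA u) = true := by decide +kernel

theorem m2_126 : allRange 18270 145 (fun u => chkFix tab mwordsA u) = true := by decide +kernel

theorem m2_127 : allRange 18415 145 (fun u => chkFix tab mwordsA u) = true := by decide +kernel

theorem m2_128 : allRange 18560 145 (fun u => chkFix tab mwordsA u) = true := by decide +kernel

theorem m2_129 : allRange 18705 145 (fun u => chkFix tab mwordsA u) = true := by decide +kernel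

theorem m2_130 : allRange 18850 145 (fun u => chkFix tab mwordsA u) = true := by decide +kernel

theorem m2_131 : allRange 18995 145 (fun u => chkFix tab mwordsA u) = true := by decide +kernel

theorem m2_132 : allRange 19140 145 (fun u => chkFix tab mwordsA u) = true := by decide +kernel


end Cfsg.Agent.Helper9.TCData.J1A0
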