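import Cfsg.Agent.Lib.Helper9.TCData.J1A0.Main

set_option autoImplicit false
set_option maxRecDepth 1000000

namespace Cfsg.Agent.Helper9.TCData.J1A0
open Cfsg.Agent.Helper9.TC2

theorem e2_2 : allRange 6752 3433 (fun u => chkE tab 2 u) = true := by decide +kernel

theorem e2_3 : allRange 10185 3358 (fun u => chkE tab 2 u) = true := by decide +kernel

theorem e2_4 : allRange 13543 2858 (fun u => chkE tab 2 u) = true := by decide +kernel

theorem e2_5 : allRange 16401 3527 (fun u => chkE tab 2 u) = true := by decide +kernel

theorem e2_6 : allRange 19928 2869 (fun u => chkE tab 2 u) = true := by decide +kernel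

theorem e2_7 : allRange 22797 3027 (fun u => chkE tab 2 u) = true := by decide +kernel

theorem e2_8 : allRange 25824 3601 (fun u => chkE tab 2 u) = true := by decide +kernel

theorem e2_9 : allRange 29425 2856 (fun u => chkE tab 2 u) = true := by decide +kernel


end Cfsg.Agent.Helper9.TCData.J1A0
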