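import Cfsg.Agent.Lib.Helper9.TCData.J1A0.Main

set_option autoImplicit false
set_option maxRecDepth 1000000

namespace Cfsg.Agent.Helper9.TCData.J1A0
open Cfsg.Agent.Helper9.TC2

theorem m2_181 : allRange 26245 145 (fun u => chkFix tab mwordsA u) = true := by decide +kernel

theorem m2_182 : allRange 26390 145 (fun u => chkFix tab mwordsA u) = true := by decide +kernel

theorem m2_183 : allRange 26535 145 (fun u => chkFix tab mwordsA u) = true := by decide +kernel

theorem m2_184 : allRange 26680 145 (fun u => chkFix tab mwordsA u) = true := by decide +kernel

theorem m2_185 : allRange 26825 145 (fun u => chkFix tab mwordsA u) = true := by decide +kernel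

theorem m2_186 : allRange 26970 145 (fun u => chkFix tab mwordsA u) = true := by decide +kernel

theorem m2_187 : allRange 27115 145 (fun u => chkFix tab mwordsA u) = true := by decide +kernel

theorem m2_188 : allRange 27260 145 (fun u => chkFix tab mwordsA u) = true := by decide +kernel


end Cfsg.Agent.Helper9.TCData.J1A0
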