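import Cfsg.Agent.Lib.Helper9.TCData.J1A0.Main

set_option autoImplicit false
set_option maxRecDepth 1000000

namespace Cfsg.Agent.Helper9.TCData.J1A0
open Cfsg.Agent.Helper9.TC2

theorem m2_205 : allRange 29725 145 (fun u => chkFix tab mwordsA u) = true := by decide +kernel

theorem m2_206 : allRange 29870 145 (fun u => chkFix tab mwordsA u) = true := by decide +kernel

theorem m2_207 : allRange 30015 145 (fun u => chkFix tab mwordsA u) = true := by decide +kernel

theorem m2_208 : allRange 30160 145 (fun u => chkFix tab mwordsA u) = true := by decide +kernel

theorem m2_209 : allRange 30305 145 (fun u => chkFix tab mwordsA u) = true := by decide +kernel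

theorem m2_210 : allRange 30450 145 (fun u => chkFix tab mwordsA u) = true := by decide +kernel

theorem m2_211 : allRange 30595 145 (fun u => chkFix tab mwordsA u) = true := by decide +kernel

theorem m2_212 : allRange 30740 145 (fun u => chkFix tab mwordsA u) = true := by decide +kernel


end Cfsg.Agent.Helper9.TCData.J1A0
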