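import Cfsg.Agent.Lib.Helper9.TCData.J1A0.Main

set_option autoImplicit false
set_option maxRecDepth 1000000

namespace Cfsg.Agent.Helper9.TCData.J1A0
open Cfsg.Agent.Helper9.TC2

theorem e2_10 : allRange 32281 2871 (fun u => chkE tab 2 u) = true := by decide +kernel

theorem e2_11 : allRange 35152 2722 (fun u => chkE tab 2 u) = true := by decide +kernel

theorem e2_12 : allRange 37874 2215 (fun u => chkE tab 2 u) = true := by decide +kernel

theorem e2_13 : allRange 40089 1742 (fun u => chkE tab 2 u) = true := by decide +kernel

theorem e2_14 : allRange 41831 2616 (fun u => chkE tab 2 u) = true := by decide +kernel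

theorem e2_15 : allRange 44447 2809 (fun u => chkE tab 2 u) = true := by decide +kernel

theorem e2_16 : allRange 47256 1842 (fun u => chkE tab 2 u) = true := by decide +kernel

theorem e2_17 : allRange 49098 1043 (fun u => chkE tab 2 u) = true := by decide +kernel


end Cfsg.Agent.Helper9.TCData.J1A0
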