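import Cfsg.Agent.Lib.Helper9.TCData.J1A0.Main

set_option autoImplicit false
set_option maxRecDepth 1000000

namespace Cfsg.Agent.Helper9.TCData.J1A0
open Cfsg.Agent.Helper9.TC2

theorem m2_213 : allRange 30885 145 (fun u => chkFix tab mwordsA u) = true := by decide +kernel

theorem m2_214 : allRange 31030 145 (fun u => chkFix tab mwordsA u) = true := by decide +kernel

theorem m2_215 : allRange 31175 145 (fun u => chkFix tab mwordsA u) = true := by decide +kernel

theorem m2_216 : allRange 31320 145 (fun u => chkFix tab mwordsA u) = true := by decide +kernel

theorem m2_217 : allRange 31465 145 (fun u => chkFix tab mwordsA u) = true := by decide +kernel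

theorem m2_218 : allRange 31610 145 (fun u => chkFix tab mwordsA u) = true := by decide +kernel

theorem m2_219 : allRange 31755 145 (fun u => chkFix tab mwordsA u) = true := by decide +kernel

theorem m2_220 : allRange 31900 145 (fun u => chkFix tab mwordsA u) = true := by decide +kernel


end Cfsg.Agent.Helper9.TCData.J1A0
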