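import Cfsg.Agent.Lib.Helper9.TCData.J1A0.Main

set_option autoImplicit false
set_option maxRecDepth 1000000

namespace Cfsg.Agent.Helper9.TCData.J1A0
open Cfsg.Agent.Helper9.TC2

theorem m2_237 : allRange 34365 145 (fun u => chkFix tab mwordsA u) = true := by decide +kernel

theorem m2_238 : allRange 34510 145 (fun u => chkFix tab mwordsA u) = true := by decide +kernel

theorem m2_239 : allRange 34655 145 (fun u => chkFix tab mwordsA u) = true := by decide +kernel

theorem m2_240 : allRange 34800 145 (fun u => chkFix tab mwordsA u) = true := by decide +kernel

theorem m2_241 : allRange 34945 145 (fun u => chkFix tab mwordsA u) = true := by decide +kernel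

theorem m2_242 : allRange 35090 145 (fun u => chkFix tab mwordsA u) = true := by decide +kernel

theorem m2_243 : allRange 35235 145 (fun u => chkFix tab mwordsA u) = true := by decide +kernel

theorem m2_244 : allRange 35380 145 (fun u => chkFix tab mwordsA u) = true := by decide +kernel


end Cfsg.Agent.Helper9.TCData.J1A0
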