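import Cfsg.Agent.Lib.Helper9.TCData.J1A0.Main

set_option autoImplicit false
set_option maxRecDepth 1000000

namespace Cfsg.Agent.Helper9.TCData.J1A0
open Cfsg.Agent.Helper9.TC2

theorem m2_253 : allRange 36685 145 (fun u => chkFix tab mwordsA u) = true := by decide +kernel

theorem m2_254 : allRange 36830 145 (fun u => chkFix tab mwordsA u) = true := by decide +kernel

theorem m2_255 : allRange 36975 145 (fun u => chkFix tab mwordsA u) = true := by decide +kernel

theorem m2_256 : allRange 37120 145 (fun u => chkFix tab mwordsA u) = true := by decide +kernel

theorem m2_257 : allRange 37265 145 (fun u => chkFix tab mwordsA u) = true := by decide +kernel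

theorem m2_258 : allRange 37410 145 (fun u => chkFix tab mwordsA u) = true := by decide +kernel

theorem m2_259 : allRange 37555 145 (fun u => chkFix tab mwordsA u) = true := by decide +kernel

theorem m2_260 : allRange 37700 145 (fun u => chkFix tab mwordsA u) = true := by decide +kernel


end Cfsg.Agent.Helper9.TCData.J1A0
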