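import Cfsg.Agent.Lib.Helper9.TCData.J1A0.Main

set_option autoImplicit false
set_option maxRecDepth 1000000

namespace Cfsg.Agent.Helper9.TCData.J1A0
open Cfsg.Agent.Helper9.TC2

theorem m2_285 : allRange 41325 145 (fun u => chkFix tab mwordsA u) = true := by decide +kernel

theorem m2_286 : allRange 41470 145 (fun u => chkFix tab mwordsA u) = true := by decide +kernel

theorem m2_287 : allRange 41615 145 (fun u => chkFix tab mwordsA u) = true := by decide +kernel

theorem m2_288 : allRange 41760 145 (fun u => chkFix tab mwordsA u) = true := by decide +kernel

theorem m2_289 : allRange 41905 145 (fun u => chkFix tab mwordsA u) = true := by decide +kernel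

theorem m2_290 : allRange 42050 145 (fun u => chkFix tab mwordsA u) = true := by decide +kernel

theorem m2_291 : allRange 42195 145 (fun u => chkFix tab mwordsA u) = true := by decide +kernel

theorem m2_292 : allRange 42340 145 (fun u => chkFix tab mwordsA u) = true := by decide +kernel


end Cfsg.Agent.Helper9.TCData.J1A0
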