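import Cfsg.Agent.Lib.Helper9.TCData.J1A0.Main

set_option autoImplicit false
set_option maxRecDepth 1000000

namespace Cfsg.Agent.Helper9.TCData.J1A0
open Cfsg.Agent.Helper9.TC2

theorem e2_18 : allRange 50141 839 (fun u => chkE tab 2 u) = true := by decide +kernel

theorem e2_19 : allRange 50980 1147 (fun u => chkE tab 2 u) = true := by decide +kernel

theorem e2_20 : allRange 52127 2597 (fun u => chkE tab 2 u) = true := by decide +kernel

theorem e2_21 : allRange 54724 2193 (fun u => chkE tab 2 u) = true := by decide +kernel

theorem e2_22 : allRange 56917 997 (fun u => chkE tab 2 u) = true := by decide +kernel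

theorem e2_23 : allRange 57914 1825 (fun u => chkE tab 2 u) = true := by decide +kernel

theorem e2_24 : allRange 59739 1793 (fun u => chkE tab 2 u) = true := by decide +kernel

theorem e2_25 : allRange 61532 980 (fun u => chkE tab 2 u) = true := by decide +kernel


end Cfsg.Agent.Helper9.TCData.J1A0
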