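import Cfsg.Agent.Lib.Helper9.TCData.J1A0.Main

set_option autoImplicit false
set_option maxRecDepth 1000000

namespace Cfsg.Agent.Helper9.TCData.J1A0
open Cfsg.Agent.Helper9.TC2

theorem e3_0 : allRange 0 8000 (fun u => chkE tab 3 u) = true := by decide +kernel

theorem e3_1 : allRange 8000 6483 (fun u => chkE tab 3 u) = true := by decide +kernel

theorem e3_2 : allRange 14483 6820 (fun u => chkE tab 3 u) = true := by decide +kernel

theorem e3_3 : allRange 21303 7134 (fun u => chkE tab 3 u) = true := by decide +kernel

theorem e3_4 : allRange 28437 7866 (fun u => chkE tab 3 u) = true := by decide +kernel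

theorem e3_5 : allRange 36303 4382 (fun u => chkE tab 3 u) = true := by decide +kernel

theorem e3_6 : allRange 40685 2853 (fun u => chkE tab 3 u) = true := by decide +kernel

theorem e3_7 : allRange 43538 5631 (fun u => chkE tab 3 u) = true := by decide +kernel


end Cfsg.Agent.Helper9.TCData.J1A0
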