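import Cfsg.Agent.Lib.Helper9.TCData.J1A0.Main

set_option autoImplicit false
set_option maxRecDepth 1000000

namespace Cfsg.Agent.Helper9.TCData.J1A0
open Cfsg.Agent.Helper9.TC2

theorem m2_389 : allRange 56405 145 (fun u => chkFix tab mwordsA u) = true := by decide +kernel

theorem m2_390 : allRange 56550 145 (fun u => chkFix tab mwordsA u) = true := by decide +kernel

theorem m2_391 : allRange 56695 145 (fun u => chkFix tab mwordsA u) = true := by decide +kernel

theorem m2_392 : allRange 56840 145 (fun u => chkFix tab mwordsA u) = true := by decide +kernel

theorem m2_393 : allRange 56985 145 (fun u => chkFix tab mwordsA u) = true := by decide +kernel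

theorem m2_394 : allRange 57130 145 (fun u => chkFix tab mwordsA u) = true := by decide +kernel

theorem m2_395 : allRange 57275 145 (fun u => chkFix tab mwordsA u) = true := by decide +kernel

theorem m2_396 : allRange 57420 145 (fun u => chkFix tab mwordsA u) = true := by decide +kernel


end Cfsg.Agent.Helper9.TCData.J1A0
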