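import Cfsg.Agent.Lib.Helper9.TCData.J1A0.Main

set_option autoImplicit false
set_option maxRecDepth 1000000

namespace Cfsg.Agent.Helper9.TCData.J1A0
open Cfsg.Agent.Helper9.TC2

theorem m2_397 : allRange 57565 145 (fun u => chkFix tab mwordsA u) = true := by decide +kernel

theorem m2_398 : allRange 57710 145 (fun u => chkFix tab mwordsA u) = true := by decide +kernel

theorem m2_399 : allRange 57855 145 (fun u => chkFix tab mwordsA u) = true := by decide +kernel

theorem m2_400 : allRange 58000 145 (fun u => chkFix tab mwordsA u) = true := by decide +kernel

theorem m2_401 : allRange 58145 145 (fun u => chkFix tab mwordsA u) = true := by decide +kernel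

theorem m2_402 : allRange 58290 145 (fun u => chkFix tab mwordsA u) = true := by decide +kernel

theorem m2_403 : allRange 58435 85 (fun u => chkFix tab mwordsA u) = true := by decide +kernel


end Cfsg.Agent.Helper9.TCData.J1A0
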