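import Cfsg.Agent.Lib.Helper9.TCData.J1A0.S0
import Cfsg.Agent.Lib.Helper9.TCData.J1A0.S1
import Cfsg.Agent.Lib.Helper9.TCData.J1A0.S2
import Cfsg.Agent.Lib.Helper9.TCData.J1A0.S3
import Cfsg.Agent.Lib.Helper9.TCData.J1A0.S4
import Cfsg.Agent.Lib.Helper9.TCData.J1A0.S5
import Cfsg.Agent.Lib.Helper9.TCData.J1A0.S6
import Cfsg.Agent.Lib.Helper9.TCData.J1A0.S7
import Cfsg.Agent.Lib.Helper9.TCData.J1A0.S8
import Cfsg.Agent.Lib.Helper9.TCData.J1A0.S9
import Cfsg.Agent.Lib.Helper9.TCData.J1A0.S10
import Cfsg.Agent.Lib.Helper9.TCData.J1A0.S11
import Cfsg.Agent.Lib.Helper9.TCData.J1A0.S12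
import Cfsg.Agent.Lib.Helper9.TCData.J1A0.S13
import Cfsg.Agent.Lib.Helper9.TCData.J1A0.S14
import Cfsg.Agent.Lib.Helper9.TCData.J1A0.S15
import Cfsg.Agent.Lib.Helper9.TCData.J1A0.S16
import Cfsg.Agent.Lib.Helper9.TCData.J1A0.S17
import Cfsg.Agent.Lib.Helper9.TCData.J1A0.S18
import Cfsg.Agent.Lib.Helper9.TCData.J1A0.S19
import Cfsg.Agent.Lib.Helper9.TCData.J1A0.S20
import Cfsg.Agent.Lib.Helper9.TCData.J1A0.S21
import Cfsg.Agent.Lib.Helper9.TCData.J1A0.S22
import Cfsg.Agent.Lib.Helper9.TCData.J1A0.S23
import Cfsg.Agent.Lib.Helper9.TCData.J1A0.S24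
import Cfsg.Agent.Lib.Helper9.TCData.J1A0.S25
import Cfsg.Agent.Lib.Helper9.TCData.J1A0.S26
import Cfsg.Agent.Lib.Helper9.TCData.J1A0.S27
import Cfsg.Agent.Lib.Helper9.TCData.J1A0.S28
import Cfsg.Agent.Lib.Helper9.TCData.J1A0.S29
import Cfsg.Agent.Lib.Helper9.TCData.J1A0.S30
import Cfsg.Agent.Lib.Helper9.TCData.J1A0.S31
import Cfsg.Agent.Lib.Helper9.TCData.J1A0.S32
import Cfsg.Agent.Lib.Helper9.TCData.J1A0.S33
import Cfsg.Agent.Lib.Helper9.TCData.J1A0.S34
import Cfsg.Agent.Lib.Helper9.TCData.J1A0.S35
import Cfsg.Agent.Lib.Helper9.TCData.J1A0.S36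
import Cfsg.Agent.Lib.Helper9.TCData.J1A0.S37
import Cfsg.Agent.Lib.Helper9.TCData.J1A0.S38
import Cfsg.Agent.Lib.Helper9.TCData.J1A0.S39
import Cfsg.Agent.Lib.Helper9.TCData.J1A0.S40
import Cfsg.Agent.Lib.Helper9.TCData.J1A0.S41
import Cfsg.Agent.Lib.Helper9.TCData.J1A0.S42
import Cfsg.Agent.Lib.Helper9.TCData.J1A0.S43
import Cfsg.Agent.Lib.Helper9.TCData.J1A0.S44
import Cfsg.Agent.Lib.Helper9.TCData.J1A0.S45
import Cfsg.Agent.Lib.Helper9.TCData.J1A0.S46
import Cfsg.Agent.Lib.Helper9.TCData.J1A0.S47
import Cfsg.Agent.Lib.Helper9.TCData.J1A0.S48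
import Cfsg.Agent.Lib.Helper9.TCData.J1A0.S49
import Cfsg.Agent.Lib.Helper9.TCData.J1A0.S50
import Cfsg.Agent.Lib.Helper9.TCData.J1A0.S51
import Cfsg.Agent.Lib.Helper9.TCData.J1A0.S52
import Cfsg.Agent.Lib.Helper9.TCData.J1A0.S53
import Cfsg.Agent.Lib.Helper9.TCData.J1A0.S54
import Cfsg.Agent.Lib.Helper9.TCData.J1A0.S55
import Cfsg.Agent.Lib.Helper9.TCData.J1A0.S56
import Cfsg.Agent.Lib.Helper9.TCData.J1A0.S57
import Cfsg.Agent.Lib.Helper9.TCData.J1A0.S58
import Cfsg.Agent.Lib.Helper9.TCData.J1A0.S59
import Cfsg.Agent.Lib.Helper9.TCData.J1A0.S60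
import Cfsg.Agent.Lib.Helper9.TCData.J1A0.S61
import Cfsg.Agent.Lib.Helper9.TCData.J1A0.S62
import Cfsg.Agent.Lib.Helper9.TCData.J1A0.S63
import Cfsg.Agent.Lib.Helper9.TCData.J1A0.S64
import Cfsg.Agent.Lib.Helper9.TCData.J1A0.S65
import Cfsg.Agent.Lib.Helper9.TCData.J1A0.S66
import Cfsg.Agent.Lib.Helper9.TCData.J1A0.S67
import Cfsg.Agent.Lib.Helper9.TCData.J1A0.S68
import Cfsg.Agent.Lib.Helper9.TCData.J1A0.S69
import Cfsg.Agent.Lib.Helper9.TCData.J1A0.S70
import Cfsg.Agent.Lib.Helper9.TCData.J1A0.S71
import Cfsg.Agent.Lib.Helper9.TCData.J1A0.S72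
import Cfsg.Agent.Lib.Helper9.TCData.J1A0.S73
import Cfsg.Agent.Lib.Helper9.TCData.J1A0.S74
import Cfsg.Agent.Lib.Helper9.TCData.J1A0.S75
import Cfsg.Agent.Lib.Helper9.TCData.J1A0.S76
import Cfsg.Agent.Lib.Helper9.TCData.J1A0.S77
import Cfsg.Agent.Lib.Helper9.TCData.J1A0.S78
import Cfsg.Agent.Lib.Helper9.TCData.J1A0.S79
import Cfsg.Agent.Lib.Helper9.TCData.J1A0.S80
import Cfsg.Agent.Lib.Helper9.TCData.J1A0.S81
import Cfsg.Agent.Lib.Helper9.TCData.J1A0.S82
import Cfsg.Agent.Lib.Helper9.TCData.J1A0.S83
import Cfsg.Agent.Lib.Helper9.TCData.J1A0.S84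
import Cfsg.Agent.Lib.Helper9.TCData.J1A0.S85
import Cfsg.Agent.Lib.Helper9.TCData.J1A0.S86
import Cfsg.Agent.Lib.Helper9.TCData.J1A0.S87
import Cfsg.Agent.Lib.Helper9.TCData.J1A0.S88
import Cfsg.Agent.Lib.Helper9.TCData.J1A0.S89
import Cfsg.Agent.Lib.Helper9.TCData.J1A0.S90
import Cfsg.Agent.Lib.Helper9.TCData.J1A0.S91
import Cfsg.Agent.Lib.Helper9.TCData.J1A0.S92
import Cfsg.Agent.Lib.Helper9.TCData.J1A0.S93

set_option autoImplicit false
set_option maxRecDepth 1000000

namespace Cfsg.Agent.Helper9.TCData.J1A0
open Cfsg.Agent.Helper9.TC2


theorem hE0 : ∀ u < 62512, chkE tab 0 u = true := by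
  have h0 : ∀ u < 0, (fun u => chkE tab 0 u) u = true := range_zero
  have h1 : ∀ u < 2848, (fun u => chkE tab 0 u) u = true := ext_range (a := 0) (len := 2848) h0 e0_0
  have h2 : ∀ u < 5519, (fun u => chkE tab 0 u) u = true := ext_range (a := 2848) (len := 2671) h1 e0_1
  have h3 : ∀ u < 8229, (fun u => chkE tab 0 u) u = true := ext_range (a := 5519) (len := 2710) h2 e0_2
  have h4 : ∀ u < 11260, (fun u => chkE tab 0 u) u = true := ext_range (a := 8229) (len := 3031) h3 e0_3
  have h5 : ∀ u < 13643, (fun u => chkE tab 0 u) u = true := ext_range (a := 11260) (len := 2383) h4 e0_4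
  have h6 : ∀ u < 16419, (fun u => chkE tab 0 u) u = true := ext_range (a := 13643) (len := 2776) h5 e0_5
  have h7 : ∀ u < 18742, (fun u => chkE tab 0 u) u = true := ext_range (a := 16419) (len := 2323) h6 e0_6
  have h8 : ∀ u < 21104, (fun u => chkE tab 0 u) u = true := ext_range (a := 18742) (len := 2362) h7 e0_7
  have h9 : ∀ u < 23526, (fun u => chkE tab 0 u) u = true := ext_range (a := 21104) (len := 2422) h8 e0_8
  have h10 : ∀ u < 25908, (fun u => chkE tab 0 u) u = true := ext_range (a := 23526) (len := 2382) h9 e0_9
  have h11 : ∀ u < 28194, (fun u => chkE tab 0 u) u = true := ext_range (a := 25908) (len := 2286) h10 e0_10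
  have h12 : ∀ u < 30614, (fun u => chkE tab 0 u) u = true := ext_range (a := 28194) (len := 2420) h11 e0_11
  have h13 : ∀ u < 32781, (fun u => chkE tab 0 u) u = true := ext_range (a := 30614) (len := 2167) h12 e0_12
  have h14 : ∀ u < 35640, (fun u => chkE tab 0 u) u = true := ext_range (a := 32781) (len := 2859) h13 e0_13
  have h15 : ∀ u < 38135, (fun u => chkE tab 0 u) u = true := ext_range (a := 35640) (len := 2495) h14 e0_14
  have h16 : ∀ u < 40421, (fun u => chkE tab 0 u) u = true := ext_range (a := 38135) (len := 2286) h15 e0_15
  have h17 : ∀ u < 42370, (fun u => chkE tab 0 u) u = true := ext_range (a := 40421) (len := 1949) h16 e0_16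
  have h18 : ∀ u < 43325, (fun u => chkE tab 0 u) u = true := ext_range (a := 42370) (len := 955) h17 e0_17
  have h19 : ∀ u < 44578, (fun u => chkE tab 0 u) u = true := ext_range (a := 43325) (len := 1253) h18 e0_18
  have h20 : ∀ u < 46164, (fun u => chkE tab 0 u) u = true := ext_range (a := 44578) (len := 1586) h19 e0_19
  have h21 : ∀ u < 47793, (fun u => chkE tab 0 u) u = true := ext_range (a := 46164) (len := 1629) h20 e0_20
  have h22 : ∀ u < 50065, (fun u => chkE tab 0 u) u = true := ext_range (a := 47793) (len := 2272) h21 e0_21
  have h23 : ∀ u < 51718, (fun u => chkE tab 0 u) u = true := ext_range (a := 50065) (len := 1653) h22 e0_22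
  have h24 : ∀ u < 52232, (fun u => chkE tab 0 u) u = true := ext_range (a := 51718) (len := 514) h23 e0_23
  have h25 : ∀ u < 52782, (fun u => chkE tab 0 u) u = true := ext_range (a := 52232) (len := 550) h24 e0_24
  have h26 : ∀ u < 53417, (fun u => chkE tab 0 u) u = true := ext_range (a := 52782) (len := 635) h25 e0_25
  have h27 : ∀ u < 54057, (fun u => chkE tab 0 u) u = true := ext_range (a := 53417) (len := 640) h26 e0_26
  have h28 : ∀ u < 55006, (fun u => chkE tab 0 u) u = true := ext_range (a := 54057) (len := 949) h27 e0_27
  have h29 : ∀ u < 56533, (fun u => chkE tab 0 u) u = true := ext_range (a := 55006) (len := 1527) h28 e0_28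
  have h30 : ∀ u < 58322, (fun u => chkE tab 0 u) u = true := ext_range (a := 56533) (len := 1789) h29 e0_29
  have h31 : ∀ u < 58633, (fun u => chkE tab 0 u) u = true := ext_range (a := 58322) (len := 311) h30 e0_30
  have h32 : ∀ u < 59006, (fun u => chkE tab 0 u) u = true := ext_range (a := 58633) (len := 373) h31 e0_31
  have h33 : ∀ u < 59370, (fun u => chkE tab 0 u) u = true := ext_range (a := 59006) (len := 364) h32 e0_32
  have h34 : ∀ u < 59867, (fun u => chkE tab 0 u) u = true := ext_range (a := 59370) (len := 497) h33 e0_33
  have h35 : ∀ u < 60958, (fun u => chkE tab 0 u) u = true := ext_range (a := 59867) (len := 1091) h34 e0_34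
  have h36 : ∀ u < 61831, (fun u => chkE tab 0 u) u = true := ext_range (a := 60958) (len := 873) h35 e0_35
  have h37 : ∀ u < 62479, (fun u => chkE tab 0 u) u = true := ext_range (a := 61831) (len := 648) h36 e0_36
  have h38 : ∀ u < 62512, (fun u => chkE tab 0 u) u = true := ext_range (a := 62479) (len := 33) h37 e0_37
  exact h38

theorem hE1 : ∀ u < 62512, chkE tab 1 u = true := by
  have h0 : ∀ u < 0, (fun u => chkE tab 1 u) u = true := range_zero
  have h1 : ∀ u < 8000, (fun u => chkE tab 1 u) u = true := ext_range (a := 0) (len := 8000) h0 e1_0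
  have h2 : ∀ u < 16005, (fun u => chkE tab 1 u) u = true := ext_range (a := 8000) (len := 8005) h1 e1_1
  have h3 : ∀ u < 24012, (fun u => chkE tab 1 u) u = true := ext_range (a := 16005) (len := 8007) h2 e1_2
  have h4 : ∀ u < 32054, (fun u => chkE tab 1 u) u = true := ext_range (a := 24012) (len := 8042) h3 e1_3
  have h5 : ∀ u < 40366, (fun u => chkE tab 1 u) u = true := ext_range (a := 32054) (len := 8312) h4 e1_4
  have h6 : ∀ u < 48464, (fun u => chkE tab 1 u) u = true := ext_range (a := 40366) (len := 8098) h5 e1_5
  have h7 : ∀ u < 56464, (fun u => chkE tab 1 u) u = true := ext_range (a := 48464) (len := 8000) h6 e1_6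
  have h8 : ∀ u < 62512, (fun u => chkE tab 1 u) u = true := ext_range (a := 56464) (len := 6048) h7 e1_7
  exact h8

theorem hE2 : ∀ u < 62512, chkE tab 2 u = true := by
  have h0 : ∀ u < 0, (fun u => chkE tab 2 u) u = true := range_zero
  have h1 : ∀ u < 3521, (fun u => chkE tab 2 u) u = true := ext_range (a := 0) (len := 3521) h0 e2_0
  have h2 : ∀ u < 6752, (fun u => chkE tab 2 u) u = true := ext_range (a := 3521) (len := 3231) h1 e2_1
  have h3 : ∀ u < 10185, (fun u => chkE tab 2 u) u = true := ext_range (a := 6752) (len := 3433) h2 e2_2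
  have h4 : ∀ u < 13543, (fun u => chkE tab 2 u) u = true := ext_range (a := 10185) (len := 3358) h3 e2_3
  have h5 : ∀ u < 16401, (fun u => chkE tab 2 u) u = true := ext_range (a := 13543) (len := 2858) h4 e2_4
  have h6 : ∀ u < 19928, (fun u => chkE tab 2 u) u = true := ext_range (a := 16401) (len := 3527) h5 e2_5
  have h7 : ∀ u < 22797, (fun u => chkE tab 2 u) u = true := ext_range (a := 19928) (len := 2869) h6 e2_6
  have h8 : ∀ u < 25824, (fun u => chkE tab 2 u) u = true := ext_range (a := 22797) (len := 3027) h7 e2_7
  have h9 : ∀ u < 29425, (fun u => chkE tab 2 u) u = true := ext_range (a := 25824) (len := 3601) h8 e2_8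
  have h10 : ∀ u < 32281, (fun u => chkE tab 2 u) u = true := ext_range (a := 29425) (len := 2856) h9 e2_9
  have h11 : ∀ u < 35152, (fun u => chkE tab 2 u) u = true := ext_range (a := 32281) (len := 2871) h10 e2_10
  have h12 : ∀ u < 37874, (fun u => chkE tab 2 u) u = true := ext_range (a := 35152) (len := 2722) h11 e2_11
  have h13 : ∀ u < 40089, (fun u => chkE tab 2 u) u = true := ext_range (a := 37874) (len := 2215) h12 e2_12
  have h14 : ∀ u < 41831, (fun u => chkE tab 2 u) u = true := ext_range (a := 40089) (len := 1742) h13 e2_13
  have h15 : ∀ u < 44447, (fun u => chkE tab 2 u) u = true := ext_range (a := 41831) (len := 2616) h14 e2_14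
  have h16 : ∀ u < 47256, (fun u => chkE tab 2 u) u = true := ext_range (a := 44447) (len := 2809) h15 e2_15
  have h17 : ∀ u < 49098, (fun u => chkE tab 2 u) u = true := ext_range (a := 47256) (len := 1842) h16 e2_16
  have h18 : ∀ u < 50141, (fun u => chkE tab 2 u) u = true := ext_range (a := 49098) (len := 1043) h17 e2_17
  have h19 : ∀ u < 50980, (fun u => chkE tab 2 u) u = true := ext_range (a := 50141) (len := 839) h18 e2_18
  have h20 : ∀ u < 52127, (fun u => chkE tab 2 u) u = true := ext_range (a := 50980) (len := 1147) h19 e2_19
  have h21 : ∀ u < 54724, (fun u => chkE tab 2 u) u = true := ext_range (a := 52127) (len := 2597) h20 e2_20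
  have h22 : ∀ u < 56917, (fun u => chkE tab 2 u) u = true := ext_range (a := 54724) (len := 2193) h21 e2_21
  have h23 : ∀ u < 57914, (fun u => chkE tab 2 u) u = true := ext_range (a := 56917) (len := 997) h22 e2_22
  have h24 : ∀ u < 59739, (fun u => chkE tab 2 u) u = true := ext_range (a := 57914) (len := 1825) h23 e2_23
  have h25 : ∀ u < 61532, (fun u => chkE tab 2 u) u = true := ext_range (a := 59739) (len := 1793) h24 e2_24
  have h26 : ∀ u < 62512, (fun u => chkE tab 2 u) u = true := ext_range (a := 61532) (len := 980) h25 e2_25
  exact h26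

theorem hE3 : ∀ u < 62512, chkE tab 3 u = true := by
  have h0 : ∀ u < 0, (fun u => chkE tab 3 u) u = true := range_zero
  have h1 : ∀ u < 8000, (fun u => chkE tab 3 u) u = true := ext_range (a := 0) (len := 8000) h0 e3_0
  have h2 : ∀ u < 14483, (fun u => chkE tab 3 u) u = true := ext_range (a := 8000) (len := 6483) h1 e3_1
  have h3 : ∀ u < 21303, (fun u => chkE tab 3 u) u = true := ext_range (a := 14483) (len := 6820) h2 e3_2
  have h4 : ∀ u < 28437, (fun u => chkE tab 3 u) u = true := ext_range (a := 21303) (len := 7134) h3 e3_3
  have h5 : ∀ u < 36303, (fun u => chkE tab 3 u) u = true := ext_range (a := 28437) (len := 7866) h4 e3_4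
  have h6 : ∀ u < 40685, (fun u => chkE tab 3 u) u = true := ext_range (a := 36303) (len := 4382) h5 e3_5
  have h7 : ∀ u < 43538, (fun u => chkE tab 3 u) u = true := ext_range (a := 40685) (len := 2853) h6 e3_6
  have h8 : ∀ u < 49169, (fun u => chkE tab 3 u) u = true := ext_range (a := 43538) (len := 5631) h7 e3_7
  have h9 : ∀ u < 50379, (fun u => chkE tab 3 u) u = true := ext_range (a := 49169) (len := 1210) h8 e3_8
  have h10 : ∀ u < 51310, (fun u => chkE tab 3 u) u = true := ext_range (a := 50379) (len := 931) h9 e3_9
  have h11 : ∀ u < 56240, (fun u => chkE tab 3 u) u = true := ext_range (a := 51310) (len := 4930) h10 e3_10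
  have h12 : ∀ u < 57395, (fun u => chkE tab 3 u) u = true := ext_range (a := 56240) (len := 1155) h11 e3_11
  have h13 : ∀ u < 57980, (fun u => chkE tab 3 u) u = true := ext_range (a := 57395) (len := 585) h12 e3_12
  have h14 : ∀ u < 61024, (fun u => chkE tab 3 u) u = true := ext_range (a := 57980) (len := 3044) h13 e3_13
  have h15 : ∀ u < 61455, (fun u => chkE tab 3 u) u = true := ext_range (a := 61024) (len := 431) h14 e3_14
  have h16 : ∀ u < 62348, (fun u => chkE tab 3 u) u = true := ext_range (a := 61455) (len := 893) h15 e3_15
  have h17 : ∀ u < 62512, (fun u => chkE tab 3 u) u = true := ext_range (a := 62348) (len := 164) h16 e3_16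
  exact h17

theorem hL : ∀ u < 62512, chkL tab u = true := by
  have h0 : ∀ u < 0, (fun u => chkL tab u) u = true := range_zero
  have h1 : ∀ u < 28903, (fun u => chkL tab u) u = true := ext_range (a := 0) (len := 28903) h0 l_0
  have h2 : ∀ u < 33967, (fun u => chkL tab u) u = true := ext_range (a := 28903) (len := 5064) h1 l_1
  have h3 : ∀ u < 36385, (fun u => chkL tab u) u = true := ext_range (a := 33967) (len := 2418) h2 l_2
  have h4 : ∀ u < 37793, (fun u => chkL tab u) u = true := ext_range (a := 36385) (len := 1408) h3 l_3
  have h5 : ∀ u < 39033, (fun u => chkL tab u) u = true := ext_range (a := 37793) (len := 1240) h4 l_4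
  have h6 : ∀ u < 40524, (fun u => chkL tab u) u = true := ext_range (a := 39033) (len := 1491) h5 l_5
  have h7 : ∀ u < 46458, (fun u => chkL tab u) u = true := ext_range (a := 40524) (len := 5934) h6 l_6
  have h8 : ∀ u < 62512, (fun u => chkL tab u) u = true := ext_range (a := 46458) (len := 16054) h7 l_7
  exact h8

theorem hF : ∀ u < 58520, chkFin tab u = true := by
  have h0 : ∀ u < 0, (fun u => chkFin tab u) u = true := range_zero
  have h1 : ∀ u < 572, (fun u => chkFin tab u) u = true := ext_range (a := 0) (len := 572) h0 f_0
  have h2 : ∀ u < 1144, (fun u => chkFin tab u) u = true := ext_range (a := 572) (len := 572) h1 f_1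
  have h3 : ∀ u < 1716, (fun u => chkFin tab u) u = true := ext_range (a := 1144) (len := 572) h2 f_2
  have h4 : ∀ u < 2288, (fun u => chkFin tab u) u = true := ext_range (a := 1716) (len := 572) h3 f_3
  have h5 : ∀ u < 2860, (fun u => chkFin tab u) u = true := ext_range (a := 2288) (len := 572) h4 f_4
  have h6 : ∀ u < 3432, (fun u => chkFin tab u) u = true := ext_range (a := 2860) (len := 572) h5 f_5
  have h7 : ∀ u < 4004, (fun u => chkFin tab u) u = true := ext_range (a := 3432) (len := 572) h6 f_6
  have h8 : ∀ u < 4576, (fun u => chkFin tab u) u = true := ext_range (a := 4004) (len := 572) h7 f_7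
  have h9 : ∀ u < 5148, (fun u => chkFin tab u) u = true := ext_range (a := 4576) (len := 572) h8 f_8
  have h10 : ∀ u < 5720, (fun u => chkFin tab u) u = true := ext_range (a := 5148) (len := 572) h9 f_9
  have h11 : ∀ u < 6292, (fun u => chkFin tab u) u = true := ext_range (a := 5720) (len := 572) h10 f_10
  have h12 : ∀ u < 6864, (fun u => chkFin tab u) u = true := ext_range (a := 6292) (len := 572) h11 f_11
  have h13 : ∀ u < 7436, (fun u => chkFin tab u) u = true := ext_range (a := 6864) (len := 572) h12 f_12
  have h14 : ∀ u < 8008, (fun u => chkFin tab u) u = true := ext_range (a := 7436) (len := 572) h13 f_13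
  have h15 : ∀ u < 8580, (fun u => chkFin tab u) u = true := ext_range (a := 8008) (len := 572) h14 f_14
  have h16 : ∀ u < 9152, (fun u => chkFin tab u) u = true := ext_range (a := 8580) (len := 572) h15 f_15
  have h17 : ∀ u < 9724, (fun u => chkFin tab u) u = true := ext_range (a := 9152) (len := 572) h16 f_16
  have h18 : ∀ u < 10296, (fun u => chkFin tab u) u = true := ext_range (a := 9724) (len := 572) h17 f_17
  have h19 : ∀ u < 10868, (fun u => chkFin tab u) u = true := ext_range (a := 10296) (len := 572) h18 f_18
  have h20 : ∀ u < 11440, (fun u => chkFin tab u) u = true := ext_range (a := 10868) (len := 572) h19 f_19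
  have h21 : ∀ u < 12012, (fun u => chkFin tab u) u = true := ext_range (a := 11440) (len := 572) h20 f_20
  have h22 : ∀ u < 12584, (fun u => chkFin tab u) u = true := ext_range (a := 12012) (len := 572) h21 f_21
  have h23 : ∀ u < 13156, (fun u => chkFin tab u) u = true := ext_range (a := 12584) (len := 572) h22 f_22
  have h24 : ∀ u < 13728, (fun u => chkFin tab u) u = true := ext_range (a := 13156) (len := 572) h23 f_23
  have h25 : ∀ u < 14300, (fun u => chkFin tab u) u = true := ext_range (a := 13728) (len := 572) h24 f_24
  have h26 : ∀ u < 14872, (fun u => chkFin tab u) u = true := ext_range (a := 14300) (len := 572) h25 f_25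
  have h27 : ∀ u < 15444, (fun u => chkFin tab u) u = true := ext_range (a := 14872) (len := 572) h26 f_26
  have h28 : ∀ u < 16016, (fun u => chkFin tab u) u = true := ext_range (a := 15444) (len := 572) h27 f_27
  have h29 : ∀ u < 16588, (fun u => chkFin tab u) u = true := ext_range (a := 16016) (len := 572) h28 f_28
  have h30 : ∀ u < 17160, (fun u => chkFin tab u) u = true := ext_range (a := 16588) (len := 572) h29 f_29
  have h31 : ∀ u < 17732, (fun u => chkFin tab u) u = true := ext_range (a := 17160) (len := 572) h30 f_30
  have h32 : ∀ u < 18304, (fun u => chkFin tab u) u = true := ext_range (a := 17732) (len := 572) h31 f_31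
  have h33 : ∀ u < 18876, (fun u => chkFin tab u) u = true := ext_range (a := 18304) (len := 572) h32 f_32
  have h34 : ∀ u < 19448, (fun u => chkFin tab u) u = true := ext_range (a := 18876) (len := 572) h33 f_33
  have h35 : ∀ u < 20020, (fun u => chkFin tab u) u = true := ext_range (a := 19448) (len := 572) h34 f_34
  have h36 : ∀ u < 20592, (fun u => chkFin tab u) u = true := ext_range (a := 20020) (len := 572) h35 f_35
  have h37 : ∀ u < 21164, (fun u => chkFin tab u) u = true := ext_range (a := 20592) (len := 572) h36 f_36
  have h38 : ∀ u < 21736, (fun u => chkFin tab u) u = true := ext_range (a := 21164) (len := 572) h37 f_37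
  have h39 : ∀ u < 22308, (fun u => chkFin tab u) u = true := ext_range (a := 21736) (len := 572) h38 f_38
  have h40 : ∀ u < 22880, (fun u => chkFin tab u) u = true := ext_range (a := 22308) (len := 572) h39 f_39
  have h41 : ∀ u < 23452, (fun u => chkFin tab u) u = true := ext_range (a := 22880) (len := 572) h40 f_40
  have h42 : ∀ u < 24024, (fun u => chkFin tab u) u = true := ext_range (a := 23452) (len := 572) h41 f_41
  have h43 : ∀ u < 24596, (fun u => chkFin tab u) u = true := ext_range (a := 24024) (len := 572) h42 f_42
  have h44 : ∀ u < 25168, (fun u => chkFin tab u) u = true := ext_range (a := 24596) (len := 572) h43 f_43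
  have h45 : ∀ u < 25740, (fun u => chkFin tab u) u = true := ext_range (a := 25168) (len := 572) h44 f_44
  have h46 : ∀ u < 26312, (fun u => chkFin tab u) u = true := ext_range (a := 25740) (len := 572) h45 f_45
  have h47 : ∀ u < 26884, (fun u => chkFin tab u) u = true := ext_range (a := 26312) (len := 572) h46 f_46
  have h48 : ∀ u < 27456, (fun u => chkFin tab u) u = true := ext_range (a := 26884) (len := 572) h47 f_47
  have h49 : ∀ u < 28028, (fun u => chkFin tab u) u = true := ext_range (a := 27456) (len := 572) h48 f_48
  have h50 : ∀ u < 28600, (fun u => chkFin tab u) u = true := ext_range (a := 28028) (len := 572) h49 f_49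
  have h51 : ∀ u < 29172, (fun u => chkFin tab u) u = true := ext_range (a := 28600) (len := 572) h50 f_50
  have h52 : ∀ u < 29744, (fun u => chkFin tab u) u = true := ext_range (a := 29172) (len := 572) h51 f_51
  have h53 : ∀ u < 30316, (fun u => chkFin tab u) u = true := ext_range (a := 29744) (len := 572) h52 f_52
  have h54 : ∀ u < 30888, (fun u => chkFin tab u) u = true := ext_range (a := 30316) (len := 572) h53 f_53
  have h55 : ∀ u < 31460, (fun u => chkFin tab u) u = true := ext_range (a := 30888) (len := 572) h54 f_54
  have h56 : ∀ u < 32032, (fun u => chkFin tab u) u = true := ext_range (a := 31460) (len := 572) h55 f_55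
  have h57 : ∀ u < 32604, (fun u => chkFin tab u) u = true := ext_range (a := 32032) (len := 572) h56 f_56
  have h58 : ∀ u < 33176, (fun u => chkFin tab u) u = true := ext_range (a := 32604) (len := 572) h57 f_57
  have h59 : ∀ u < 33748, (fun u => chkFin tab u) u = true := ext_range (a := 33176) (len := 572) h58 f_58
  have h60 : ∀ u < 34320, (fun u => chkFin tab u) u = true := ext_range (a := 33748) (len := 572) h59 f_59
  have h61 : ∀ u < 34892, (fun u => chkFin tab u) u = true := ext_range (a := 34320) (len := 572) h60 f_60
  have h62 : ∀ u < 35464, (fun u => chkFin tab u) u = true := ext_range (a := 34892) (len := 572) h61 f_61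
  have h63 : ∀ u < 36036, (fun u => chkFin tab u) u = true := ext_range (a := 35464) (len := 572) h62 f_62
  have h64 : ∀ u < 36608, (fun u => chkFin tab u) u = true := ext_range (a := 36036) (len := 572) h63 f_63
  have h65 : ∀ u < 37180, (fun u => chkFin tab u) u = true := ext_range (a := 36608) (len := 572) h64 f_64
  have h66 : ∀ u < 37752, (fun u => chkFin tab u) u = true := ext_range (a := 37180) (len := 572) h65 f_65
  have h67 : ∀ u < 38324, (fun u => chkFin tab u) u = true := ext_range (a := 37752) (len := 572) h66 f_66
  have h68 : ∀ u < 38896, (fun u => chkFin tab u) u = true := ext_range (a := 38324) (len := 572) h67 f_67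
  have h69 : ∀ u < 39468, (fun u => chkFin tab u) u = true := ext_range (a := 38896) (len := 572) h68 f_68
  have h70 : ∀ u < 40040, (fun u => chkFin tab u) u = true := ext_range (a := 39468) (len := 572) h69 f_69
  have h71 : ∀ u < 40612, (fun u => chkFin tab u) u = true := ext_range (a := 40040) (len := 572) h70 f_70
  have h72 : ∀ u < 41184, (fun u => chkFin tab u) u = true := ext_range (a := 40612) (len := 572) h71 f_71
  have h73 : ∀ u < 41756, (fun u => chkFin tab u) u = true := ext_range (a := 41184) (len := 572) h72 f_72
  have h74 : ∀ u < 42328, (fun u => chkFin tab u) u = true := ext_range (a := 41756) (len := 572) h73 f_73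
  have h75 : ∀ u < 42900, (fun u => chkFin tab u) u = true := ext_range (a := 42328) (len := 572) h74 f_74
  have h76 : ∀ u < 43472, (fun u => chkFin tab u) u = true := ext_range (a := 42900) (len := 572) h75 f_75
  have h77 : ∀ u < 44044, (fun u => chkFin tab u) u = true := ext_range (a := 43472) (len := 572) h76 f_76
  have h78 : ∀ u < 44616, (fun u => chkFin tab u) u = true := ext_range (a := 44044) (len := 572) h77 f_77
  have h79 : ∀ u < 45188, (fun u => chkFin tab u) u = true := ext_range (a := 44616) (len := 572) h78 f_78
  have h80 : ∀ u < 45760, (fun u => chkFin tab u) u = true := ext_range (a := 45188) (len := 572) h79 f_79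
  have h81 : ∀ u < 46332, (fun u => chkFin tab u) u = true := ext_range (a := 45760) (len := 572) h80 f_80
  have h82 : ∀ u < 46904, (fun u => chkFin tab u) u = true := ext_range (a := 46332) (len := 572) h81 f_81
  have h83 : ∀ u < 47476, (fun u => chkFin tab u) u = true := ext_range (a := 46904) (len := 572) h82 f_82
  have h84 : ∀ u < 48048, (fun u => chkFin tab u) u = true := ext_range (a := 47476) (len := 572) h83 f_83
  have h85 : ∀ u < 48620, (fun u => chkFin tab u) u = true := ext_range (a := 48048) (len := 572) h84 f_84
  have h86 : ∀ u < 49192, (fun u => chkFin tab u) u = true := ext_range (a := 48620) (len := 572) h85 f_85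
  have h87 : ∀ u < 49764, (fun u => chkFin tab u) u = true := ext_range (a := 49192) (len := 572) h86 f_86
  have h88 : ∀ u < 50336, (fun u => chkFin tab u) u = true := ext_range (a := 49764) (len := 572) h87 f_87
  have h89 : ∀ u < 50908, (fun u => chkFin tab u) u = true := ext_range (a := 50336) (len := 572) h88 f_88
  have h90 : ∀ u < 51480, (fun u => chkFin tab u) u = true := ext_range (a := 50908) (len := 572) h89 f_89
  have h91 : ∀ u < 52052, (fun u => chkFin tab u) u = true := ext_range (a := 51480) (len := 572) h90 f_90
  have h92 : ∀ u < 52624, (fun u => chkFin tab u) u = true := ext_range (a := 52052) (len := 572) h91 f_91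
  have h93 : ∀ u < 53196, (fun u => chkFin tab u) u = true := ext_range (a := 52624) (len := 572) h92 f_92
  have h94 : ∀ u < 53768, (fun u => chkFin tab u) u = true := ext_range (a := 53196) (len := 572) h93 f_93
  have h95 : ∀ u < 54340, (fun u => chkFin tab u) u = true := ext_range (a := 53768) (len := 572) h94 f_94
  have h96 : ∀ u < 54912, (fun u => chkFin tab u) u = true := ext_range (a := 54340) (len := 572) h95 f_95
  have h97 : ∀ u < 55484, (fun u => chkFin tab u) u = true := ext_range (a := 54912) (len := 572) h96 f_96
  have h98 : ∀ u < 56056, (fun u => chkFin tab u) u = true := ext_range (a := 55484) (len := 572) h97 f_97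
  have h99 : ∀ u < 56628, (fun u => chkFin tab u) u = true := ext_range (a := 56056) (len := 572) h98 f_98
  have h100 : ∀ u < 57200, (fun u => chkFin tab u) u = true := ext_range (a := 56628) (len := 572) h99 f_99
  have h101 : ∀ u < 57772, (fun u => chkFin tab u) u = true := ext_range (a := 57200) (len := 572) h100 f_100
  have h102 : ∀ u < 58344, (fun u => chkFin tab u) u = true := ext_range (a := 57772) (len := 572) h101 f_101
  have h103 : ∀ u < 58520, (fun u => chkFin tab u) u = true := ext_range (a := 58344) (len := 176) h102 f_102
  exact h103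

theorem hC : ∀ u < 62512, chkCls tab u = true := by
  have h0 : ∀ u < 0, (fun u => chkCls tab u) u = true := range_zero
  have h1 : ∀ u < 2667, (fun u => chkCls tab u) u = true := ext_range (a := 0) (len := 2667) h0 c_0
  have h2 : ∀ u < 5334, (fun u => chkCls tab u) u = true := ext_range (a := 2667) (len := 2667) h1 c_1
  have h3 : ∀ u < 8001, (fun u => chkCls tab u) u = true := ext_range (a := 5334) (len := 2667) h2 c_2
  have h4 : ∀ u < 10668, (fun u => chkCls tab u) u = true := ext_range (a := 8001) (len := 2667) h3 c_3
  have h5 : ∀ u < 13335, (fun u => chkCls tab u) u = true := ext_range (a := 10668) (len := 2667) h4 c_4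
  have h6 : ∀ u < 16002, (fun u => chkCls tab u) u = true := ext_range (a := 13335) (len := 2667) h5 c_5
  have h7 : ∀ u < 18669, (fun u => chkCls tab u) u = true := ext_range (a := 16002) (len := 2667) h6 c_6
  have h8 : ∀ u < 21336, (fun u => chkCls tab u) u = true := ext_range (a := 18669) (len := 2667) h7 c_7
  have h9 : ∀ u < 24003, (fun u => chkCls tab u) u = true := ext_range (a := 21336) (len := 2667) h8 c_8
  have h10 : ∀ u < 26670, (fun u => chkCls tab u) u = true := ext_range (a := 24003) (len := 2667) h9 c_9
  have h11 : ∀ u < 29337, (fun u => chkCls tab u) u = true := ext_range (a := 26670) (len := 2667) h10 c_10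
  have h12 : ∀ u < 32004, (fun u => chkCls tab u) u = true := ext_range (a := 29337) (len := 2667) h11 c_11
  have h13 : ∀ u < 34671, (fun u => chkCls tab u) u = true := ext_range (a := 32004) (len := 2667) h12 c_12
  have h14 : ∀ u < 37338, (fun u => chkCls tab u) u = true := ext_range (a := 34671) (len := 2667) h13 c_13
  have h15 : ∀ u < 40005, (fun u => chkCls tab u) u = true := ext_range (a := 37338) (len := 2667) h14 c_14
  have h16 : ∀ u < 42672, (fun u => chkCls tab u) u = true := ext_range (a := 40005) (len := 2667) h15 c_15
  have h17 : ∀ u < 45339, (fun u => chkCls tab u) u = true := ext_range (a := 42672) (len := 2667) h16 c_16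
  have h18 : ∀ u < 48006, (fun u => chkCls tab u) u = true := ext_range (a := 45339) (len := 2667) h17 c_17
  have h19 : ∀ u < 50673, (fun u => chkCls tab u) u = true := ext_range (a := 48006) (len := 2667) h18 c_18
  have h20 : ∀ u < 53340, (fun u => chkCls tab u) u = true := ext_range (a := 50673) (len := 2667) h19 c_19
  have h21 : ∀ u < 56007, (fun u => chkCls tab u) u = true := ext_range (a := 53340) (len := 2667) h20 c_20
  have h22 : ∀ u < 58674, (fun u => chkCls tab u) u = true := ext_range (a := 56007) (len := 2667) h21 c_21
  have h23 : ∀ u < 61341, (fun u => chkCls tab u) u = true := ext_range (a := 58674) (len := 2667) h22 c_22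
  have h24 : ∀ u < 62512, (fun u => chkCls tab u) u = true := ext_range (a := 61341) (len := 1171) h23 c_23
  exact h24

theorem hM1 : ∀ u < 58520, chkM1 tab u = true := by
  have h0 : ∀ u < 0, (fun u => chkM1 tab u) u = true := range_zero
  have h1 : ∀ u < 1510, (fun u => chkM1 tab u) u = true := ext_range (a := 0) (len := 1510) h0 m1_0
  have h2 : ∀ u < 3020, (fun u => chkM1 tab u) u = true := ext_range (a := 1510) (len := 1510) h1 m1_1
  have h3 : ∀ u < 4530, (fun u => chkM1 tab u) u = true := ext_range (a := 3020) (len := 1510) h2 m1_2
  have h4 : ∀ u < 6040, (fun u => chkM1 tab u) u = true := ext_range (a := 4530) (len := 1510) h3 m1_3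
  have h5 : ∀ u < 7550, (fun u => chkM1 tab u) u = true := ext_range (a := 6040) (len := 1510) h4 m1_4
  have h6 : ∀ u < 9060, (fun u => chkM1 tab u) u = true := ext_range (a := 7550) (len := 1510) h5 m1_5
  have h7 : ∀ u < 10570, (fun u => chkM1 tab u) u = true := ext_range (a := 9060) (len := 1510) h6 m1_6
  have h8 : ∀ u < 12080, (fun u => chkM1 tab u) u = true := ext_range (a := 10570) (len := 1510) h7 m1_7
  have h9 : ∀ u < 13590, (fun u => chkM1 tab u) u = true := ext_range (a := 12080) (len := 1510) h8 m1_8
  have h10 : ∀ u < 15100, (fun u => chkM1 tab u) u = true := ext_range (a := 13590) (len := 1510) h9 m1_9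
  have h11 : ∀ u < 16610, (fun u => chkM1 tab u) u = true := ext_range (a := 15100) (len := 1510) h10 m1_10
  have h12 : ∀ u < 18120, (fun u => chkM1 tab u) u = true := ext_range (a := 16610) (len := 1510) h11 m1_11
  have h13 : ∀ u < 19630, (fun u => chkM1 tab u) u = true := ext_range (a := 18120) (len := 1510) h12 m1_12
  have h14 : ∀ u < 21140, (fun u => chkM1 tab u) u = true := ext_range (a := 19630) (len := 1510) h13 m1_13
  have h15 : ∀ u < 22650, (fun u => chkM1 tab u) u = true := ext_range (a := 21140) (len := 1510) h14 m1_14
  have h16 : ∀ u < 24160, (fun u => chkM1 tab u) u = true := ext_range (a := 22650) (len := 1510) h15 m1_15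
  have h17 : ∀ u < 25670, (fun u => chkM1 tab u) u = true := ext_range (a := 24160) (len := 1510) h16 m1_16
  have h18 : ∀ u < 27180, (fun u => chkM1 tab u) u = true := ext_range (a := 25670) (len := 1510) h17 m1_17
  have h19 : ∀ u < 28690, (fun u => chkM1 tab u) u = true := ext_range (a := 27180) (len := 1510) h18 m1_18
  have h20 : ∀ u < 30200, (fun u => chkM1 tab u) u = true := ext_range (a := 28690) (len := 1510) h19 m1_19
  have h21 : ∀ u < 31710, (fun u => chkM1 tab u) u = true := ext_range (a := 30200) (len := 1510) h20 m1_20
  have h22 : ∀ u < 33220, (fun u => chkM1 tab u) u = true := ext_range (a := 31710) (len := 1510) h21 m1_21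
  have h23 : ∀ u < 34730, (fun u => chkM1 tab u) u = true := ext_range (a := 33220) (len := 1510) h22 m1_22
  have h24 : ∀ u < 36240, (fun u => chkM1 tab u) u = true := ext_range (a := 34730) (len := 1510) h23 m1_23
  have h25 : ∀ u < 37750, (fun u => chkM1 tab u) u = true := ext_range (a := 36240) (len := 1510) h24 m1_24
  have h26 : ∀ u < 39260, (fun u => chkM1 tab u) u = true := ext_range (a := 37750) (len := 1510) h25 m1_25
  have h27 : ∀ u < 40770, (fun u => chkM1 tab u) u = true := ext_range (a := 39260) (len := 1510) h26 m1_26
  have h28 : ∀ u < 42280, (fun u => chkM1 tab u) u = true := ext_range (a := 40770) (len := 1510) h27 m1_27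
  have h29 : ∀ u < 43790, (fun u => chkM1 tab u) u = true := ext_range (a := 42280) (len := 1510) h28 m1_28
  have h30 : ∀ u < 45300, (fun u => chkM1 tab u) u = true := ext_range (a := 43790) (len := 1510) h29 m1_29
  have h31 : ∀ u < 46810, (fun u => chkM1 tab u) u = true := ext_range (a := 45300) (len := 1510) h30 m1_30
  have h32 : ∀ u < 48320, (fun u => chkM1 tab u) u = true := ext_range (a := 46810) (len := 1510) h31 m1_31
  have h33 : ∀ u < 49830, (fun u => chkM1 tab u) u = true := ext_range (a := 48320) (len := 1510) h32 m1_32
  have h34 : ∀ u < 51340, (fun u => chkM1 tab u) u = true := ext_range (a := 49830) (len := 1510) h33 m1_33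
  have h35 : ∀ u < 52850, (fun u => chkM1 tab u) u = true := ext_range (a := 51340) (len := 1510) h34 m1_34
  have h36 : ∀ u < 54360, (fun u => chkM1 tab u) u = true := ext_range (a := 52850) (len := 1510) h35 m1_35
  have h37 : ∀ u < 55870, (fun u => chkM1 tab u) u = true := ext_range (a := 54360) (len := 1510) h36 m1_36
  have h38 : ∀ u < 57380, (fun u => chkM1 tab u) u = true := ext_range (a := 55870) (len := 1510) h37 m1_37
  have h39 : ∀ u < 58520, (fun u => chkM1 tab u) u = true := ext_range (a := 57380) (len := 1140) h38 m1_38
  exact h39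

theorem hMA : ∀ u < 58520, chkAux tab aux u = true := by
  have h0 : ∀ u < 0, (fun u => chkAux tab aux u) u = true := range_zero
  have h1 : ∀ u < 770, (fun u => chkAux tab aux u) u = true := ext_range (a := 0) (len := 770) h0 ma_0
  have h2 : ∀ u < 1540, (fun u => chkAux tab aux u) u = true := ext_range (a := 770) (len := 770) h1 ma_1
  have h3 : ∀ u < 2310, (fun u => chkAux tab aux u) u = true := ext_range (a := 1540) (len := 770) h2 ma_2
  have h4 : ∀ u < 3080, (fun u => chkAux tab aux u) u = true := ext_range (a := 2310) (len := 770) h3 ma_3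
  have h5 : ∀ u < 3850, (fun u => chkAux tab aux u) u = true := ext_range (a := 3080) (len := 770) h4 ma_4
  have h6 : ∀ u < 4620, (fun u => chkAux tab aux u) u = true := ext_range (a := 3850) (len := 770) h5 ma_5
  have h7 : ∀ u < 5390, (fun u => chkAux tab aux u) u = true := ext_range (a := 4620) (len := 770) h6 ma_6
  have h8 : ∀ u < 6160, (fun u => chkAux tab aux u) u = true := ext_range (a := 5390) (len := 770) h7 ma_7
  have h9 : ∀ u < 6930, (fun u => chkAux tab aux u) u = true := ext_range (a := 6160) (len := 770) h8 ma_8
  have h10 : ∀ u < 7700, (fun u => chkAux tab aux u) u = true := ext_range (a := 6930) (len := 770) h9 ma_9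
  have h11 : ∀ u < 8470, (fun u => chkAux tab aux u) u = true := ext_range (a := 7700) (len := 770) h10 ma_10
  have h12 : ∀ u < 9240, (fun u => chkAux tab aux u) u = true := ext_range (a := 8470) (len := 770) h11 ma_11
  have h13 : ∀ u < 10010, (fun u => chkAux tab aux u) u = true := ext_range (a := 9240) (len := 770) h12 ma_12
  have h14 : ∀ u < 10780, (fun u => chkAux tab aux u) u = true := ext_range (a := 10010) (len := 770) h13 ma_13
  have h15 : ∀ u < 11550, (fun u => chkAux tab aux u) u = true := ext_range (a := 10780) (len := 770) h14 ma_14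
  have h16 : ∀ u < 12320, (fun u => chkAux tab aux u) u = true := ext_range (a := 11550) (len := 770) h15 ma_15
  have h17 : ∀ u < 13090, (fun u => chkAux tab aux u) u = true := ext_range (a := 12320) (len := 770) h16 ma_16
  have h18 : ∀ u < 13860, (fun u => chkAux tab aux u) u = true := ext_range (a := 13090) (len := 770) h17 ma_17
  have h19 : ∀ u < 14630, (fun u => chkAux tab aux u) u = true := ext_range (a := 13860) (len := 770) h18 ma_18
  have h20 : ∀ u < 15400, (fun u => chkAux tab aux u) u = true := ext_range (a := 14630) (len := 770) h19 ma_19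
  have h21 : ∀ u < 16170, (fun u => chkAux tab aux u) u = true := ext_range (a := 15400) (len := 770) h20 ma_20
  have h22 : ∀ u < 16940, (fun u => chkAux tab aux u) u = true := ext_range (a := 16170) (len := 770) h21 ma_21
  have h23 : ∀ u < 17710, (fun u => chkAux tab aux u) u = true := ext_range (a := 16940) (len := 770) h22 ma_22
  have h24 : ∀ u < 18480, (fun u => chkAux tab aux u) u = true := ext_range (a := 17710) (len := 770) h23 ma_23
  have h25 : ∀ u < 19250, (fun u => chkAux tab aux u) u = true := ext_range (a := 18480) (len := 770) h24 ma_24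
  have h26 : ∀ u < 20020, (fun u => chkAux tab aux u) u = true := ext_range (a := 19250) (len := 770) h25 ma_25
  have h27 : ∀ u < 20790, (fun u => chkAux tab aux u) u = true := ext_range (a := 20020) (len := 770) h26 ma_26
  have h28 : ∀ u < 21560, (fun u => chkAux tab aux u) u = true := ext_range (a := 20790) (len := 770) h27 ma_27
  have h29 : ∀ u < 22330, (fun u => chkAux tab aux u) u = true := ext_range (a := 21560) (len := 770) h28 ma_28
  have h30 : ∀ u < 23100, (fun u => chkAux tab aux u) u = true := ext_range (a := 22330) (len := 770) h29 ma_29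
  have h31 : ∀ u < 23870, (fun u => chkAux tab aux u) u = true := ext_range (a := 23100) (len := 770) h30 ma_30
  have h32 : ∀ u < 24640, (fun u => chkAux tab aux u) u = true := ext_range (a := 23870) (len := 770) h31 ma_31
  have h33 : ∀ u < 25410, (fun u => chkAux tab aux u) u = true := ext_range (a := 24640) (len := 770) h32 ma_32
  have h34 : ∀ u < 26180, (fun u => chkAux tab aux u) u = true := ext_range (a := 25410) (len := 770) h33 ma_33
  have h35 : ∀ u < 26950, (fun u => chkAux tab aux u) u = true := ext_range (a := 26180) (len := 770) h34 ma_34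
  have h36 : ∀ u < 27720, (fun u => chkAux tab aux u) u = true := ext_range (a := 26950) (len := 770) h35 ma_35
  have h37 : ∀ u < 28490, (fun u => chkAux tab aux u) u = true := ext_range (a := 27720) (len := 770) h36 ma_36
  have h38 : ∀ u < 29260, (fun u => chkAux tab aux u) u = true := ext_range (a := 28490) (len := 770) h37 ma_37
  have h39 : ∀ u < 30030, (fun u => chkAux tab aux u) u = true := ext_range (a := 29260) (len := 770) h38 ma_38
  have h40 : ∀ u < 30800, (fun u => chkAux tab aux u) u = true := ext_range (a := 30030) (len := 770) h39 ma_39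
  have h41 : ∀ u < 31570, (fun u => chkAux tab aux u) u = true := ext_range (a := 30800) (len := 770) h40 ma_40
  have h42 : ∀ u < 32340, (fun u => chkAux tab aux u) u = true := ext_range (a := 31570) (len := 770) h41 ma_41
  have h43 : ∀ u < 33110, (fun u => chkAux tab aux u) u = true := ext_range (a := 32340) (len := 770) h42 ma_42
  have h44 : ∀ u < 33880, (fun u => chkAux tab aux u) u = true := ext_range (a := 33110) (len := 770) h43 ma_43
  have h45 : ∀ u < 34650, (fun u => chkAux tab aux u) u = true := ext_range (a := 33880) (len := 770) h44 ma_44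
  have h46 : ∀ u < 35420, (fun u => chkAux tab aux u) u = true := ext_range (a := 34650) (len := 770) h45 ma_45
  have h47 : ∀ u < 36190, (fun u => chkAux tab aux u) u = true := ext_range (a := 35420) (len := 770) h46 ma_46
  have h48 : ∀ u < 36960, (fun u => chkAux tab aux u) u = true := ext_range (a := 36190) (len := 770) h47 ma_47
  have h49 : ∀ u < 37730, (fun u => chkAux tab aux u) u = true := ext_range (a := 36960) (len := 770) h48 ma_48
  have h50 : ∀ u < 38500, (fun u => chkAux tab aux u) u = true := ext_range (a := 37730) (len := 770) h49 ma_49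
  have h51 : ∀ u < 39270, (fun u => chkAux tab aux u) u = true := ext_range (a := 38500) (len := 770) h50 ma_50
  have h52 : ∀ u < 40040, (fun u => chkAux tab aux u) u = true := ext_range (a := 39270) (len := 770) h51 ma_51
  have h53 : ∀ u < 40810, (fun u => chkAux tab aux u) u = true := ext_range (a := 40040) (len := 770) h52 ma_52
  have h54 : ∀ u < 41580, (fun u => chkAux tab aux u) u = true := ext_range (a := 40810) (len := 770) h53 ma_53
  have h55 : ∀ u < 42350, (fun u => chkAux tab aux u) u = true := ext_range (a := 41580) (len := 770) h54 ma_54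
  have h56 : ∀ u < 43120, (fun u => chkAux tab aux u) u = true := ext_range (a := 42350) (len := 770) h55 ma_55
  have h57 : ∀ u < 43890, (fun u => chkAux tab aux u) u = true := ext_range (a := 43120) (len := 770) h56 ma_56
  have h58 : ∀ u < 44660, (fun u => chkAux tab aux u) u = true := ext_range (a := 43890) (len := 770) h57 ma_57
  have h59 : ∀ u < 45430, (fun u => chkAux tab aux u) u = true := ext_range (a := 44660) (len := 770) h58 ma_58
  have h60 : ∀ u < 46200, (fun u => chkAux tab aux u) u = true := ext_range (a := 45430) (len := 770) h59 ma_59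
  have h61 : ∀ u < 46970, (fun u => chkAux tab aux u) u = true := ext_range (a := 46200) (len := 770) h60 ma_60
  have h62 : ∀ u < 47740, (fun u => chkAux tab aux u) u = true := ext_range (a := 46970) (len := 770) h61 ma_61
  have h63 : ∀ u < 48510, (fun u => chkAux tab aux u) u = true := ext_range (a := 47740) (len := 770) h62 ma_62
  have h64 : ∀ u < 49280, (fun u => chkAux tab aux u) u = true := ext_range (a := 48510) (len := 770) h63 ma_63
  have h65 : ∀ u < 50050, (fun u => chkAux tab aux u) u = true := ext_range (a := 49280) (len := 770) h64 ma_64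
  have h66 : ∀ u < 50820, (fun u => chkAux tab aux u) u = true := ext_range (a := 50050) (len := 770) h65 ma_65
  have h67 : ∀ u < 51590, (fun u => chkAux tab aux u) u = true := ext_range (a := 50820) (len := 770) h66 ma_66
  have h68 : ∀ u < 52360, (fun u => chkAux tab aux u) u = true := ext_range (a := 51590) (len := 770) h67 ma_67
  have h69 : ∀ u < 53130, (fun u => chkAux tab aux u) u = true := ext_range (a := 52360) (len := 770) h68 ma_68
  have h70 : ∀ u < 53900, (fun u => chkAux tab aux u) u = true := ext_range (a := 53130) (len := 770) h69 ma_69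
  have h71 : ∀ u < 54670, (fun u => chkAux tab aux u) u = true := ext_range (a := 53900) (len := 770) h70 ma_70
  have h72 : ∀ u < 55440, (fun u => chkAux tab aux u) u = true := ext_range (a := 54670) (len := 770) h71 ma_71
  have h73 : ∀ u < 56210, (fun u => chkAux tab aux u) u = true := ext_range (a := 55440) (len := 770) h72 ma_72
  have h74 : ∀ u < 56980, (fun u => chkAux tab aux u) u = true := ext_range (a := 56210) (len := 770) h73 ma_73
  have h75 : ∀ u < 57750, (fun u => chkAux tab aux u) u = true := ext_range (a := 56980) (len := 770) h74 ma_74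
  have h76 : ∀ u < 58520, (fun u => chkAux tab aux u) u = true := ext_range (a := 57750) (len := 770) h75 ma_75
  exact h76

theorem hM2A : ∀ u < 58520, chkFix tab mwordsA u = true := by
  have h0 : ∀ u < 0, (fun u => chkFix tab mwordsA u) u = true := range_zero
  have h1 : ∀ u < 145, (fun u => chkFix tab mwordsA u) u = true := ext_range (a := 0) (len := 145) h0 m2_0
  have h2 : ∀ u < 290, (fun u => chkFix tab mwordsA u) u = true := ext_range (a := 145) (len := 145) h1 m2_1
  have h3 : ∀ u < 435, (fun u => chkFix tab mwordsA u) u = true := ext_range (a := 290) (len := 145) h2 m2_2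
  have h4 : ∀ u < 580, (fun u => chkFix tab mwordsA u) u = true := ext_range (a := 435) (len := 145) h3 m2_3
  have h5 : ∀ u < 725, (fun u => chkFix tab mwordsA u) u = true := ext_range (a := 580) (len := 145) h4 m2_4
  have h6 : ∀ u < 870, (fun u => chkFix tab mwordsA u) u = true := ext_range (a := 725) (len := 145) h5 m2_5
  have h7 : ∀ u < 1015, (fun u => chkFix tab mwordsA u) u = true := ext_range (a := 870) (len := 145) h6 m2_6
  have h8 : ∀ u < 1160, (fun u => chkFix tab mwordsA u) u = true := ext_range (a := 1015) (len := 145) h7 m2_7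
  have h9 : ∀ u < 1305, (fun u => chkFix tab mwordsA u) u = true := ext_range (a := 1160) (len := 145) h8 m2_8
  have h10 : ∀ u < 1450, (fun u => chkFix tab mwordsA u) u = true := ext_range (a := 1305) (len := 145) h9 m2_9
  have h11 : ∀ u < 1595, (fun u => chkFix tab mwordsA u) u = true := ext_range (a := 1450) (len := 145) h10 m2_10
  have h12 : ∀ u < 1740, (fun u => chkFix tab mwordsA u) u = true := ext_range (a := 1595) (len := 145) h11 m2_11
  have h13 : ∀ u < 1885, (fun u => chkFix tab mwordsA u) u = true := ext_range (a := 1740) (len := 145) h12 m2_12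
  have h14 : ∀ u < 2030, (fun u => chkFix tab mwordsA u) u = true := ext_range (a := 1885) (len := 145) h13 m2_13
  have h15 : ∀ u < 2175, (fun u => chkFix tab mwordsA u) u = true := ext_range (a := 2030) (len := 145) h14 m2_14
  have h16 : ∀ u < 2320, (fun u => chkFix tab mwordsA u) u = true := ext_range (a := 2175) (len := 145) h15 m2_15
  have h17 : ∀ u < 2465, (fun u => chkFix tab mwordsA u) u = true := ext_range (a := 2320) (len := 145) h16 m2_16
  have h18 : ∀ u < 2610, (fun u => chkFix tab mwordsA u) u = true := ext_range (a := 2465) (len := 145) h17 m2_17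
  have h19 : ∀ u < 2755, (fun u => chkFix tab mwordsA u) u = true := ext_range (a := 2610) (len := 145) h18 m2_18
  have h20 : ∀ u < 2900, (fun u => chkFix tab mwordsA u) u = true := ext_range (a := 2755) (len := 145) h19 m2_19
  have h21 : ∀ u < 3045, (fun u => chkFix tab mwordsA u) u = true := ext_range (a := 2900) (len := 145) h20 m2_20
  have h22 : ∀ u < 3190, (fun u => chkFix tab mwordsA u) u = true := ext_range (a := 3045) (len := 145) h21 m2_21
  have h23 : ∀ u < 3335, (fun u => chkFix tab mwordsA u) u = true := ext_range (a := 3190) (len := 145) h22 m2_22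
  have h24 : ∀ u < 3480, (fun u => chkFix tab mwordsA u) u = true := ext_range (a := 3335) (len := 145) h23 m2_23
  have h25 : ∀ u < 3625, (fun u => chkFix tab mwordsA u) u = true := ext_range (a := 3480) (len := 145) h24 m2_24
  have h26 : ∀ u < 3770, (fun u => chkFix tab mwordsA u) u = true := ext_range (a := 3625) (len := 145) h25 m2_25
  have h27 : ∀ u < 3915, (fun u => chkFix tab mwordsA u) u = true := ext_range (a := 3770) (len := 145) h26 m2_26
  have h28 : ∀ u < 4060, (fun u => chkFix tab mwordsA u) u = true := ext_range (a := 3915) (len := 145) h27 m2_27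
  have h29 : ∀ u < 4205, (fun u => chkFix tab mwordsA u) u = true := ext_range (a := 4060) (len := 145) h28 m2_28
  have h30 : ∀ u < 4350, (fun u => chkFix tab mwordsA u) u = true := ext_range (a := 4205) (len := 145) h29 m2_29
  have h31 : ∀ u < 4495, (fun u => chkFix tab mwordsA u) u = true := ext_range (a := 4350) (len := 145) h30 m2_30
  have h32 : ∀ u < 4640, (fun u => chkFix tab mwordsA u) u = true := ext_range (a := 4495) (len := 145) h31 m2_31
  have h33 : ∀ u < 4785, (fun u => chkFix tab mwordsA u) u = true := ext_range (a := 4640) (len := 145) h32 m2_32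
  have h34 : ∀ u < 4930, (fun u => chkFix tab mwordsA u) u = true := ext_range (a := 4785) (len := 145) h33 m2_33
  have h35 : ∀ u < 5075, (fun u => chkFix tab mwordsA u) u = true := ext_range (a := 4930) (len := 145) h34 m2_34
  have h36 : ∀ u < 5220, (fun u => chkFix tab mwordsA u) u = true := ext_range (a := 5075) (len := 145) h35 m2_35
  have h37 : ∀ u < 5365, (fun u => chkFix tab mwordsA u) u = true := ext_range (a := 5220) (len := 145) h36 m2_36
  have h38 : ∀ u < 5510, (fun u => chkFix tab mwordsA u) u = true := ext_range (a := 5365) (len := 145) h37 m2_37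
  have h39 : ∀ u < 5655, (fun u => chkFix tab mwordsA u) u = true := ext_range (a := 5510) (len := 145) h38 m2_38
  have h40 : ∀ u < 5800, (fun u => chkFix tab mwordsA u) u = true := ext_range (a := 5655) (len := 145) h39 m2_39
  have h41 : ∀ u < 5945, (fun u => chkFix tab mwordsA u) u = true := ext_range (a := 5800) (len := 145) h40 m2_40
  have h42 : ∀ u < 6090, (fun u => chkFix tab mwordsA u) u = true := ext_range (a := 5945) (len := 145) h41 m2_41
  have h43 : ∀ u < 6235, (fun u => chkFix tab mwordsA u) u = true := ext_range (a := 6090) (len := 145) h42 m2_42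
  have h44 : ∀ u < 6380, (fun u => chkFix tab mwordsA u) u = true := ext_range (a := 6235) (len := 145) h43 m2_43
  have h45 : ∀ u < 6525, (fun u => chkFix tab mwordsA u) u = true := ext_range (a := 6380) (len := 145) h44 m2_44
  have h46 : ∀ u < 6670, (fun u => chkFix tab mwordsA u) u = true := ext_range (a := 6525) (len := 145) h45 m2_45
  have h47 : ∀ u < 6815, (fun u => chkFix tab mwordsA u) u = true := ext_range (a := 6670) (len := 145) h46 m2_46
  have h48 : ∀ u < 6960, (fun u => chkFix tab mwordsA u) u = true := ext_range (a := 6815) (len := 145) h47 m2_47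
  have h49 : ∀ u < 7105, (fun u => chkFix tab mwordsA u) u = true := ext_range (a := 6960) (len := 145) h48 m2_48
  have h50 : ∀ u < 7250, (fun u => chkFix tab mwordsA u) u = true := ext_range (a := 7105) (len := 145) h49 m2_49
  have h51 : ∀ u < 7395, (fun u => chkFix tab mwordsA u) u = true := ext_range (a := 7250) (len := 145) h50 m2_50
  have h52 : ∀ u < 7540, (fun u => chkFix tab mwordsA u) u = true := ext_range (a := 7395) (len := 145) h51 m2_51
  have h53 : ∀ u < 7685, (fun u => chkFix tab mwordsA u) u = true := ext_range (a := 7540) (len := 145) h52 m2_52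
  have h54 : ∀ u < 7830, (fun u => chkFix tab mwordsA u) u = true := ext_range (a := 7685) (len := 145) h53 m2_53
  have h55 : ∀ u < 7975, (fun u => chkFix tab mwordsA u) u = true := ext_range (a := 7830) (len := 145) h54 m2_54
  have h56 : ∀ u < 8120, (fun u => chkFix tab mwordsA u) u = true := ext_range (a := 7975) (len := 145) h55 m2_55
  have h57 : ∀ u < 8265, (fun u => chkFix tab mwordsA u) u = true := ext_range (a := 8120) (len := 145) h56 m2_56
  have h58 : ∀ u < 8410, (fun u => chkFix tab mwordsA u) u = true := ext_range (a := 8265) (len := 145) h57 m2_57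
  have h59 : ∀ u < 8555, (fun u => chkFix tab mwordsA u) u = true := ext_range (a := 8410) (len := 145) h58 m2_58
  have h60 : ∀ u < 8700, (fun u => chkFix tab mwordsA u) u = true := ext_range (a := 8555) (len := 145) h59 m2_59
  have h61 : ∀ u < 8845, (fun u => chkFix tab mwordsA u) u = true := ext_range (a := 8700) (len := 145) h60 m2_60
  have h62 : ∀ u < 8990, (fun u => chkFix tab mwordsA u) u = true := ext_range (a := 8845) (len := 145) h61 m2_61
  have h63 : ∀ u < 9135, (fun u => chkFix tab mwordsA u) u = true := ext_range (a := 8990) (len := 145) h62 m2_62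
  have h64 : ∀ u < 9280, (fun u => chkFix tab mwordsA u) u = true := ext_range (a := 9135) (len := 145) h63 m2_63
  have h65 : ∀ u < 9425, (fun u => chkFix tab mwordsA u) u = true := ext_range (a := 9280) (len := 145) h64 m2_64
  have h66 : ∀ u < 9570, (fun u => chkFix tab mwordsA u) u = true := ext_range (a := 9425) (len := 145) h65 m2_65
  have h67 : ∀ u < 9715, (fun u => chkFix tab mwordsA u) u = true := ext_range (a := 9570) (len := 145) h66 m2_66
  have h68 : ∀ u < 9860, (fun u => chkFix tab mwordsA u) u = true := ext_range (a := 9715) (len := 145) h67 m2_67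
  have h69 : ∀ u < 10005, (fun u => chkFix tab mwordsA u) u = true := ext_range (a := 9860) (len := 145) h68 m2_68
  have h70 : ∀ u < 10150, (fun u => chkFix tab mwordsA u) u = true := ext_range (a := 10005) (len := 145) h69 m2_69
  have h71 : ∀ u < 10295, (fun u => chkFix tab mwordsA u) u = true := ext_range (a := 10150) (len := 145) h70 m2_70
  have h72 : ∀ u < 10440, (fun u => chkFix tab mwordsA u) u = true := ext_range (a := 10295) (len := 145) h71 m2_71
  have h73 : ∀ u < 10585, (fun u => chkFix tab mwordsA u) u = true := ext_range (a := 10440) (len := 145) h72 m2_72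
  have h74 : ∀ u < 10730, (fun u => chkFix tab mwordsA u) u = true := ext_range (a := 10585) (len := 145) h73 m2_73
  have h75 : ∀ u < 10875, (fun u => chkFix tab mwordsA u) u = true := ext_range (a := 10730) (len := 145) h74 m2_74
  have h76 : ∀ u < 11020, (fun u => chkFix tab mwordsA u) u = true := ext_range (a := 10875) (len := 145) h75 m2_75
  have h77 : ∀ u < 11165, (fun u => chkFix tab mwordsA u) u = true := ext_range (a := 11020) (len := 145) h76 m2_76
  have h78 : ∀ u < 11310, (fun u => chkFix tab mwordsA u) u = true := ext_range (a := 11165) (len := 145) h77 m2_77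
  have h79 : ∀ u < 11455, (fun u => chkFix tab mwordsA u) u = true := ext_range (a := 11310) (len := 145) h78 m2_78
  have h80 : ∀ u < 11600, (fun u => chkFix tab mwordsA u) u = true := ext_range (a := 11455) (len := 145) h79 m2_79
  have h81 : ∀ u < 11745, (fun u => chkFix tab mwordsA u) u = true := ext_range (a := 11600) (len := 145) h80 m2_80
  have h82 : ∀ u < 11890, (fun u => chkFix tab mwordsA u) u = true := ext_range (a := 11745) (len := 145) h81 m2_81
  have h83 : ∀ u < 12035, (fun u => chkFix tab mwordsA u) u = true := ext_range (a := 11890) (len := 145) h82 m2_82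
  have h84 : ∀ u < 12180, (fun u => chkFix tab mwordsA u) u = true := ext_range (a := 12035) (len := 145) h83 m2_83
  have h85 : ∀ u < 12325, (fun u => chkFix tab mwordsA u) u = true := ext_range (a := 12180) (len := 145) h84 m2_84
  have h86 : ∀ u < 12470, (fun u => chkFix tab mwordsA u) u = true := ext_range (a := 12325) (len := 145) h85 m2_85
  have h87 : ∀ u < 12615, (fun u => chkFix tab mwordsA u) u = true := ext_range (a := 12470) (len := 145) h86 m2_86
  have h88 : ∀ u < 12760, (fun u => chkFix tab mwordsA u) u = true := ext_range (a := 12615) (len := 145) h87 m2_87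
  have h89 : ∀ u < 12905, (fun u => chkFix tab mwordsA u) u = true := ext_range (a := 12760) (len := 145) h88 m2_88
  have h90 : ∀ u < 13050, (fun u => chkFix tab mwordsA u) u = true := ext_range (a := 12905) (len := 145) h89 m2_89
  have h91 : ∀ u < 13195, (fun u => chkFix tab mwordsA u) u = true := ext_range (a := 13050) (len := 145) h90 m2_90
  have h92 : ∀ u < 13340, (fun u => chkFix tab mwordsA u) u = true := ext_range (a := 13195) (len := 145) h91 m2_91
  have h93 : ∀ u < 13485, (fun u => chkFix tab mwordsA u) u = true := ext_range (a := 13340) (len := 145) h92 m2_92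
  have h94 : ∀ u < 13630, (fun u => chkFix tab mwordsA u) u = true := ext_range (a := 13485) (len := 145) h93 m2_93
  have h95 : ∀ u < 13775, (fun u => chkFix tab mwordsA u) u = true := ext_range (a := 13630) (len := 145) h94 m2_94
  have h96 : ∀ u < 13920, (fun u => chkFix tab mwordsA u) u = true := ext_range (a := 13775) (len := 145) h95 m2_95
  have h97 : ∀ u < 14065, (fun u => chkFix tab mwordsA u) u = true := ext_range (a := 13920) (len := 145) h96 m2_96
  have h98 : ∀ u < 14210, (fun u => chkFix tab mwordsA u) u = true := ext_range (a := 14065) (len := 145) h97 m2_97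
  have h99 : ∀ u < 14355, (fun u => chkFix tab mwordsA u) u = true := ext_range (a := 14210) (len := 145) h98 m2_98
  have h100 : ∀ u < 14500, (fun u => chkFix tab mwordsA u) u = true := ext_range (a := 14355) (len := 145) h99 m2_99
  have h101 : ∀ u < 14645, (fun u => chkFix tab mwordsA u) u = true := ext_range (a := 14500) (len := 145) h100 m2_100
  have h102 : ∀ u < 14790, (fun u => chkFix tab mwordsA u) u = true := ext_range (a := 14645) (len := 145) h101 m2_101
  have h103 : ∀ u < 14935, (fun u => chkFix tab mwordsA u) u = true := ext_range (a := 14790) (len := 145) h102 m2_102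
  have h104 : ∀ u < 15080, (fun u => chkFix tab mwordsA u) u = true := ext_range (a := 14935) (len := 145) h103 m2_103
  have h105 : ∀ u < 15225, (fun u => chkFix tab mwordsA u) u = true := ext_range (a := 15080) (len := 145) h104 m2_104
  have h106 : ∀ u < 15370, (fun u => chkFix tab mwordsA u) u = true := ext_range (a := 15225) (len := 145) h105 m2_105
  have h107 : ∀ u < 15515, (fun u => chkFix tab mwordsA u) u = true := ext_range (a := 15370) (len := 145) h106 m2_106
  have h108 : ∀ u < 15660, (fun u => chkFix tab mwordsA u) u = true := ext_range (a := 15515) (len := 145) h107 m2_107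
  have h109 : ∀ u < 15805, (fun u => chkFix tab mwordsA u) u = true := ext_range (a := 15660) (len := 145) h108 m2_108
  have h110 : ∀ u < 15950, (fun u => chkFix tab mwordsA u) u = true := ext_range (a := 15805) (len := 145) h109 m2_109
  have h111 : ∀ u < 16095, (fun u => chkFix tab mwordsA u) u = true := ext_range (a := 15950) (len := 145) h110 m2_110
  have h112 : ∀ u < 16240, (fun u => chkFix tab mwordsA u) u = true := ext_range (a := 16095) (len := 145) h111 m2_111
  have h113 : ∀ u < 16385, (fun u => chkFix tab mwordsA u) u = true := ext_range (a := 16240) (len := 145) h112 m2_112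
  have h114 : ∀ u < 16530, (fun u => chkFix tab mwordsA u) u = true := ext_range (a := 16385) (len := 145) h113 m2_113
  have h115 : ∀ u < 16675, (fun u => chkFix tab mwordsA u) u = true := ext_range (a := 16530) (len := 145) h114 m2_114
  have h116 : ∀ u < 16820, (fun u => chkFix tab mwordsA u) u = true := ext_range (a := 16675) (len := 145) h115 m2_115
  have h117 : ∀ u < 16965, (fun u => chkFix tab mwordsA u) u = true := ext_range (a := 16820) (len := 145) h116 m2_116
  have h118 : ∀ u < 17110, (fun u => chkFix tab mwordsA u) u = true := ext_range (a := 16965) (len := 145) h117 m2_117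
  have h119 : ∀ u < 17255, (fun u => chkFix tab mwordsA u) u = true := ext_range (a := 17110) (len := 145) h118 m2_118
  have h120 : ∀ u < 17400, (fun u => chkFix tab mwordsA u) u = true := ext_range (a := 17255) (len := 145) h119 m2_119
  have h121 : ∀ u < 17545, (fun u => chkFix tab mwordsA u) u = true := ext_range (a := 17400) (len := 145) h120 m2_120
  have h122 : ∀ u < 17690, (fun u => chkFix tab mwordsA u) u = true := ext_range (a := 17545) (len := 145) h121 m2_121
  have h123 : ∀ u < 17835, (fun u => chkFix tab mwordsA u) u = true := ext_range (a := 17690) (len := 145) h122 m2_122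
  have h124 : ∀ u < 17980, (fun u => chkFix tab mwordsA u) u = true := ext_range (a := 17835) (len := 145) h123 m2_123
  have h125 : ∀ u < 18125, (fun u => chkFix tab mwordsA u) u = true := ext_range (a := 17980) (len := 145) h124 m2_124
  have h126 : ∀ u < 18270, (fun u => chkFix tab mwordsA u) u = true := ext_range (a := 18125) (len := 145) h125 m2_125
  have h127 : ∀ u < 18415, (fun u => chkFix tab mwordsA u) u = true := ext_range (a := 18270) (len := 145) h126 m2_126
  have h128 : ∀ u < 18560, (fun u => chkFix tab mwordsA u) u = true := ext_range (a := 18415) (len := 145) h127 m2_127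
  have h129 : ∀ u < 18705, (fun u => chkFix tab mwordsA u) u = true := ext_range (a := 18560) (len := 145) h128 m2_128
  have h130 : ∀ u < 18850, (fun u => chkFix tab mwordsA u) u = true := ext_range (a := 18705) (len := 145) h129 m2_129
  have h131 : ∀ u < 18995, (fun u => chkFix tab mwordsA u) u = true := ext_range (a := 18850) (len := 145) h130 m2_130
  have h132 : ∀ u < 19140, (fun u => chkFix tab mwordsA u) u = true := ext_range (a := 18995) (len := 145) h131 m2_131
  have h133 : ∀ u < 19285, (fun u => chkFix tab mwordsA u) u = true := ext_range (a := 19140) (len := 145) h132 m2_132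
  have h134 : ∀ u < 19430, (fun u => chkFix tab mwordsA u) u = true := ext_range (a := 19285) (len := 145) h133 m2_133
  have h135 : ∀ u < 19575, (fun u => chkFix tab mwordsA u) u = true := ext_range (a := 19430) (len := 145) h134 m2_134
  have h136 : ∀ u < 19720, (fun u => chkFix tab mwordsA u) u = true := ext_range (a := 19575) (len := 145) h135 m2_135
  have h137 : ∀ u < 19865, (fun u => chkFix tab mwordsA u) u = true := ext_range (a := 19720) (len := 145) h136 m2_136
  have h138 : ∀ u < 20010, (fun u => chkFix tab mwordsA u) u = true := ext_range (a := 19865) (len := 145) h137 m2_137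
  have h139 : ∀ u < 20155, (fun u => chkFix tab mwordsA u) u = true := ext_range (a := 20010) (len := 145) h138 m2_138
  have h140 : ∀ u < 20300, (fun u => chkFix tab mwordsA u) u = true := ext_range (a := 20155) (len := 145) h139 m2_139
  have h141 : ∀ u < 20445, (fun u => chkFix tab mwordsA u) u = true := ext_range (a := 20300) (len := 145) h140 m2_140
  have h142 : ∀ u < 20590, (fun u => chkFix tab mwordsA u) u = true := ext_range (a := 20445) (len := 145) h141 m2_141
  have h143 : ∀ u < 20735, (fun u => chkFix tab mwordsA u) u = true := ext_range (a := 20590) (len := 145) h142 m2_142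
  have h144 : ∀ u < 20880, (fun u => chkFix tab mwordsA u) u = true := ext_range (a := 20735) (len := 145) h143 m2_143
  have h145 : ∀ u < 21025, (fun u => chkFix tab mwordsA u) u = true := ext_range (a := 20880) (len := 145) h144 m2_144
  have h146 : ∀ u < 21170, (fun u => chkFix tab mwordsA u) u = true := ext_range (a := 21025) (len := 145) h145 m2_145
  have h147 : ∀ u < 21315, (fun u => chkFix tab mwordsA u) u = true := ext_range (a := 21170) (len := 145) h146 m2_146
  have h148 : ∀ u < 21460, (fun u => chkFix tab mwordsA u) u = true := ext_range (a := 21315) (len := 145) h147 m2_147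
  have h149 : ∀ u < 21605, (fun u => chkFix tab mwordsA u) u = true := ext_range (a := 21460) (len := 145) h148 m2_148
  have h150 : ∀ u < 21750, (fun u => chkFix tab mwordsA u) u = true := ext_range (a := 21605) (len := 145) h149 m2_149
  have h151 : ∀ u < 21895, (fun u => chkFix tab mwordsA u) u = true := ext_range (a := 21750) (len := 145) h150 m2_150
  have h152 : ∀ u < 22040, (fun u => chkFix tab mwordsA u) u = true := ext_range (a := 21895) (len := 145) h151 m2_151
  have h153 : ∀ u < 22185, (fun u => chkFix tab mwordsA u) u = true := ext_range (a := 22040) (len := 145) h152 m2_152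
  have h154 : ∀ u < 22330, (fun u => chkFix tab mwordsA u) u = true := ext_range (a := 22185) (len := 145) h153 m2_153
  have h155 : ∀ u < 22475, (fun u => chkFix tab mwordsA u) u = true := ext_range (a := 22330) (len := 145) h154 m2_154
  have h156 : ∀ u < 22620, (fun u => chkFix tab mwordsA u) u = true := ext_range (a := 22475) (len := 145) h155 m2_155
  have h157 : ∀ u < 22765, (fun u => chkFix tab mwordsA u) u = true := ext_range (a := 22620) (len := 145) h156 m2_156
  have h158 : ∀ u < 22910, (fun u => chkFix tab mwordsA u) u = true := ext_range (a := 22765) (len := 145) h157 m2_157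
  have h159 : ∀ u < 23055, (fun u => chkFix tab mwordsA u) u = true := ext_range (a := 22910) (len := 145) h158 m2_158
  have h160 : ∀ u < 23200, (fun u => chkFix tab mwordsA u) u = true := ext_range (a := 23055) (len := 145) h159 m2_159
  have h161 : ∀ u < 23345, (fun u => chkFix tab mwordsA u) u = true := ext_range (a := 23200) (len := 145) h160 m2_160
  have h162 : ∀ u < 23490, (fun u => chkFix tab mwordsA u) u = true := ext_range (a := 23345) (len := 145) h161 m2_161
  have h163 : ∀ u < 23635, (fun u => chkFix tab mwordsA u) u = true := ext_range (a := 23490) (len := 145) h162 m2_162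
  have h164 : ∀ u < 23780, (fun u => chkFix tab mwordsA u) u = true := ext_range (a := 23635) (len := 145) h163 m2_163
  have h165 : ∀ u < 23925, (fun u => chkFix tab mwordsA u) u = true := ext_range (a := 23780) (len := 145) h164 m2_164
  have h166 : ∀ u < 24070, (fun u => chkFix tab mwordsA u) u = true := ext_range (a := 23925) (len := 145) h165 m2_165
  have h167 : ∀ u < 24215, (fun u => chkFix tab mwordsA u) u = true := ext_range (a := 24070) (len := 145) h166 m2_166
  have h168 : ∀ u < 24360, (fun u => chkFix tab mwordsA u) u = true := ext_range (a := 24215) (len := 145) h167 m2_167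
  have h169 : ∀ u < 24505, (fun u => chkFix tab mwordsA u) u = true := ext_range (a := 24360) (len := 145) h168 m2_168
  have h170 : ∀ u < 24650, (fun u => chkFix tab mwordsA u) u = true := ext_range (a := 24505) (len := 145) h169 m2_169
  have h171 : ∀ u < 24795, (fun u => chkFix tab mwordsA u) u = true := ext_range (a := 24650) (len := 145) h170 m2_170
  have h172 : ∀ u < 24940, (fun u => chkFix tab mwordsA u) u = true := ext_range (a := 24795) (len := 145) h171 m2_171
  have h173 : ∀ u < 25085, (fun u => chkFix tab mwordsA u) u = true := ext_range (a := 24940) (len := 145) h172 m2_172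
  have h174 : ∀ u < 25230, (fun u => chkFix tab mwordsA u) u = true := ext_range (a := 25085) (len := 145) h173 m2_173
  have h175 : ∀ u < 25375, (fun u => chkFix tab mwordsA u) u = true := ext_range (a := 25230) (len := 145) h174 m2_174
  have h176 : ∀ u < 25520, (fun u => chkFix tab mwordsA u) u = true := ext_range (a := 25375) (len := 145) h175 m2_175
  have h177 : ∀ u < 25665, (fun u => chkFix tab mwordsA u) u = true := ext_range (a := 25520) (len := 145) h176 m2_176
  have h178 : ∀ u < 25810, (fun u => chkFix tab mwordsA u) u = true := ext_range (a := 25665) (len := 145) h177 m2_177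
  have h179 : ∀ u < 25955, (fun u => chkFix tab mwordsA u) u = true := ext_range (a := 25810) (len := 145) h178 m2_178
  have h180 : ∀ u < 26100, (fun u => chkFix tab mwordsA u) u = true := ext_range (a := 25955) (len := 145) h179 m2_179
  have h181 : ∀ u < 26245, (fun u => chkFix tab mwordsA u) u = true := ext_range (a := 26100) (len := 145) h180 m2_180
  have h182 : ∀ u < 26390, (fun u => chkFix tab mwordsA u) u = true := ext_range (a := 26245) (len := 145) h181 m2_181
  have h183 : ∀ u < 26535, (fun u => chkFix tab mwordsA u) u = true := ext_range (a := 26390) (len := 145) h182 m2_182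
  have h184 : ∀ u < 26680, (fun u => chkFix tab mwordsA u) u = true := ext_range (a := 26535) (len := 145) h183 m2_183
  have h185 : ∀ u < 26825, (fun u => chkFix tab mwordsA u) u = true := ext_range (a := 26680) (len := 145) h184 m2_184
  have h186 : ∀ u < 26970, (fun u => chkFix tab mwordsA u) u = true := ext_range (a := 26825) (len := 145) h185 m2_185
  have h187 : ∀ u < 27115, (fun u => chkFix tab mwordsA u) u = true := ext_range (a := 26970) (len := 145) h186 m2_186
  have h188 : ∀ u < 27260, (fun u => chkFix tab mwordsA u) u = true := ext_range (a := 27115) (len := 145) h187 m2_187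
  have h189 : ∀ u < 27405, (fun u => chkFix tab mwordsA u) u = true := ext_range (a := 27260) (len := 145) h188 m2_188
  have h190 : ∀ u < 27550, (fun u => chkFix tab mwordsA u) u = true := ext_range (a := 27405) (len := 145) h189 m2_189
  have h191 : ∀ u < 27695, (fun u => chkFix tab mwordsA u) u = true := ext_range (a := 27550) (len := 145) h190 m2_190
  have h192 : ∀ u < 27840, (fun u => chkFix tab mwordsA u) u = true := ext_range (a := 27695) (len := 145) h191 m2_191
  have h193 : ∀ u < 27985, (fun u => chkFix tab mwordsA u) u = true := ext_range (a := 27840) (len := 145) h192 m2_192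
  have h194 : ∀ u < 28130, (fun u => chkFix tab mwordsA u) u = true := ext_range (a := 27985) (len := 145) h193 m2_193
  have h195 : ∀ u < 28275, (fun u => chkFix tab mwordsA u) u = true := ext_range (a := 28130) (len := 145) h194 m2_194
  have h196 : ∀ u < 28420, (fun u => chkFix tab mwordsA u) u = true := ext_range (a := 28275) (len := 145) h195 m2_195
  have h197 : ∀ u < 28565, (fun u => chkFix tab mwordsA u) u = true := ext_range (a := 28420) (len := 145) h196 m2_196
  have h198 : ∀ u < 28710, (fun u => chkFix tab mwordsA u) u = true := ext_range (a := 28565) (len := 145) h197 m2_197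
  have h199 : ∀ u < 28855, (fun u => chkFix tab mwordsA u) u = true := ext_range (a := 28710) (len := 145) h198 m2_198
  have h200 : ∀ u < 29000, (fun u => chkFix tab mwordsA u) u = true := ext_range (a := 28855) (len := 145) h199 m2_199
  have h201 : ∀ u < 29145, (fun u => chkFix tab mwordsA u) u = true := ext_range (a := 29000) (len := 145) h200 m2_200
  have h202 : ∀ u < 29290, (fun u => chkFix tab mwordsA u) u = true := ext_range (a := 29145) (len := 145) h201 m2_201
  have h203 : ∀ u < 29435, (fun u => chkFix tab mwordsA u) u = true := ext_range (a := 29290) (len := 145) h202 m2_202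
  have h204 : ∀ u < 29580, (fun u => chkFix tab mwordsA u) u = true := ext_range (a := 29435) (len := 145) h203 m2_203
  have h205 : ∀ u < 29725, (fun u => chkFix tab mwordsA u) u = true := ext_range (a := 29580) (len := 145) h204 m2_204
  have h206 : ∀ u < 29870, (fun u => chkFix tab mwordsA u) u = true := ext_range (a := 29725) (len := 145) h205 m2_205
  have h207 : ∀ u < 30015, (fun u => chkFix tab mwordsA u) u = true := ext_range (a := 29870) (len := 145) h206 m2_206
  have h208 : ∀ u < 30160, (fun u => chkFix tab mwordsA u) u = true := ext_range (a := 30015) (len := 145) h207 m2_207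
  have h209 : ∀ u < 30305, (fun u => chkFix tab mwordsA u) u = true := ext_range (a := 30160) (len := 145) h208 m2_208
  have h210 : ∀ u < 30450, (fun u => chkFix tab mwordsA u) u = true := ext_range (a := 30305) (len := 145) h209 m2_209
  have h211 : ∀ u < 30595, (fun u => chkFix tab mwordsA u) u = true := ext_range (a := 30450) (len := 145) h210 m2_210
  have h212 : ∀ u < 30740, (fun u => chkFix tab mwordsA u) u = true := ext_range (a := 30595) (len := 145) h211 m2_211
  have h213 : ∀ u < 30885, (fun u => chkFix tab mwordsA u) u = true := ext_range (a := 30740) (len := 145) h212 m2_212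
  have h214 : ∀ u < 31030, (fun u => chkFix tab mwordsA u) u = true := ext_range (a := 30885) (len := 145) h213 m2_213
  have h215 : ∀ u < 31175, (fun u => chkFix tab mwordsA u) u = true := ext_range (a := 31030) (len := 145) h214 m2_214
  have h216 : ∀ u < 31320, (fun u => chkFix tab mwordsA u) u = true := ext_range (a := 31175) (len := 145) h215 m2_215
  have h217 : ∀ u < 31465, (fun u => chkFix tab mwordsA u) u = true := ext_range (a := 31320) (len := 145) h216 m2_216
  have h218 : ∀ u < 31610, (fun u => chkFix tab mwordsA u) u = true := ext_range (a := 31465) (len := 145) h217 m2_217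
  have h219 : ∀ u < 31755, (fun u => chkFix tab mwordsA u) u = true := ext_range (a := 31610) (len := 145) h218 m2_218
  have h220 : ∀ u < 31900, (fun u => chkFix tab mwordsA u) u = true := ext_range (a := 31755) (len := 145) h219 m2_219
  have h221 : ∀ u < 32045, (fun u => chkFix tab mwordsA u) u = true := ext_range (a := 31900) (len := 145) h220 m2_220
  have h222 : ∀ u < 32190, (fun u => chkFix tab mwordsA u) u = true := ext_range (a := 32045) (len := 145) h221 m2_221
  have h223 : ∀ u < 32335, (fun u => chkFix tab mwordsA u) u = true := ext_range (a := 32190) (len := 145) h222 m2_222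
  have h224 : ∀ u < 32480, (fun u => chkFix tab mwordsA u) u = true := ext_range (a := 32335) (len := 145) h223 m2_223
  have h225 : ∀ u < 32625, (fun u => chkFix tab mwordsA u) u = true := ext_range (a := 32480) (len := 145) h224 m2_224
  have h226 : ∀ u < 32770, (fun u => chkFix tab mwordsA u) u = true := ext_range (a := 32625) (len := 145) h225 m2_225
  have h227 : ∀ u < 32915, (fun u => chkFix tab mwordsA u) u = true := ext_range (a := 32770) (len := 145) h226 m2_226
  have h228 : ∀ u < 33060, (fun u => chkFix tab mwordsA u) u = true := ext_range (a := 32915) (len := 145) h227 m2_227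
  have h229 : ∀ u < 33205, (fun u => chkFix tab mwordsA u) u = true := ext_range (a := 33060) (len := 145) h228 m2_228
  have h230 : ∀ u < 33350, (fun u => chkFix tab mwordsA u) u = true := ext_range (a := 33205) (len := 145) h229 m2_229
  have h231 : ∀ u < 33495, (fun u => chkFix tab mwordsA u) u = true := ext_range (a := 33350) (len := 145) h230 m2_230
  have h232 : ∀ u < 33640, (fun u => chkFix tab mwordsA u) u = true := ext_range (a := 33495) (len := 145) h231 m2_231
  have h233 : ∀ u < 33785, (fun u => chkFix tab mwordsA u) u = true := ext_range (a := 33640) (len := 145) h232 m2_232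
  have h234 : ∀ u < 33930, (fun u => chkFix tab mwordsA u) u = true := ext_range (a := 33785) (len := 145) h233 m2_233
  have h235 : ∀ u < 34075, (fun u => chkFix tab mwordsA u) u = true := ext_range (a := 33930) (len := 145) h234 m2_234
  have h236 : ∀ u < 34220, (fun u => chkFix tab mwordsA u) u = true := ext_range (a := 34075) (len := 145) h235 m2_235
  have h237 : ∀ u < 34365, (fun u => chkFix tab mwordsA u) u = true := ext_range (a := 34220) (len := 145) h236 m2_236
  have h238 : ∀ u < 34510, (fun u => chkFix tab mwordsA u) u = true := ext_range (a := 34365) (len := 145) h237 m2_237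
  have h239 : ∀ u < 34655, (fun u => chkFix tab mwordsA u) u = true := ext_range (a := 34510) (len := 145) h238 m2_238
  have h240 : ∀ u < 34800, (fun u => chkFix tab mwordsA u) u = true := ext_range (a := 34655) (len := 145) h239 m2_239
  have h241 : ∀ u < 34945, (fun u => chkFix tab mwordsA u) u = true := ext_range (a := 34800) (len := 145) h240 m2_240
  have h242 : ∀ u < 35090, (fun u => chkFix tab mwordsA u) u = true := ext_range (a := 34945) (len := 145) h241 m2_241
  have h243 : ∀ u < 35235, (fun u => chkFix tab mwordsA u) u = true := ext_range (a := 35090) (len := 145) h242 m2_242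
  have h244 : ∀ u < 35380, (fun u => chkFix tab mwordsA u) u = true := ext_range (a := 35235) (len := 145) h243 m2_243
  have h245 : ∀ u < 35525, (fun u => chkFix tab mwordsA u) u = true := ext_range (a := 35380) (len := 145) h244 m2_244
  have h246 : ∀ u < 35670, (fun u => chkFix tab mwordsA u) u = true := ext_range (a := 35525) (len := 145) h245 m2_245
  have h247 : ∀ u < 35815, (fun u => chkFix tab mwordsA u) u = true := ext_range (a := 35670) (len := 145) h246 m2_246
  have h248 : ∀ u < 35960, (fun u => chkFix tab mwordsA u) u = true := ext_range (a := 35815) (len := 145) h247 m2_247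
  have h249 : ∀ u < 36105, (fun u => chkFix tab mwordsA u) u = true := ext_range (a := 35960) (len := 145) h248 m2_248
  have h250 : ∀ u < 36250, (fun u => chkFix tab mwordsA u) u = true := ext_range (a := 36105) (len := 145) h249 m2_249
  have h251 : ∀ u < 36395, (fun u => chkFix tab mwordsA u) u = true := ext_range (a := 36250) (len := 145) h250 m2_250
  have h252 : ∀ u < 36540, (fun u => chkFix tab mwordsA u) u = true := ext_range (a := 36395) (len := 145) h251 m2_251
  have h253 : ∀ u < 36685, (fun u => chkFix tab mwordsA u) u = true := ext_range (a := 36540) (len := 145) h252 m2_252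
  have h254 : ∀ u < 36830, (fun u => chkFix tab mwordsA u) u = true := ext_range (a := 36685) (len := 145) h253 m2_253
  have h255 : ∀ u < 36975, (fun u => chkFix tab mwordsA u) u = true := ext_range (a := 36830) (len := 145) h254 m2_254
  have h256 : ∀ u < 37120, (fun u => chkFix tab mwordsA u) u = true := ext_range (a := 36975) (len := 145) h255 m2_255
  have h257 : ∀ u < 37265, (fun u => chkFix tab mwordsA u) u = true := ext_range (a := 37120) (len := 145) h256 m2_256
  have h258 : ∀ u < 37410, (fun u => chkFix tab mwordsA u) u = true := ext_range (a := 37265) (len := 145) h257 m2_257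
  have h259 : ∀ u < 37555, (fun u => chkFix tab mwordsA u) u = true := ext_range (a := 37410) (len := 145) h258 m2_258
  have h260 : ∀ u < 37700, (fun u => chkFix tab mwordsA u) u = true := ext_range (a := 37555) (len := 145) h259 m2_259
  have h261 : ∀ u < 37845, (fun u => chkFix tab mwordsA u) u = true := ext_range (a := 37700) (len := 145) h260 m2_260
  have h262 : ∀ u < 37990, (fun u => chkFix tab mwordsA u) u = true := ext_range (a := 37845) (len := 145) h261 m2_261
  have h263 : ∀ u < 38135, (fun u => chkFix tab mwordsA u) u = true := ext_range (a := 37990) (len := 145) h262 m2_262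
  have h264 : ∀ u < 38280, (fun u => chkFix tab mwordsA u) u = true := ext_range (a := 38135) (len := 145) h263 m2_263
  have h265 : ∀ u < 38425, (fun u => chkFix tab mwordsA u) u = true := ext_range (a := 38280) (len := 145) h264 m2_264
  have h266 : ∀ u < 38570, (fun u => chkFix tab mwordsA u) u = true := ext_range (a := 38425) (len := 145) h265 m2_265
  have h267 : ∀ u < 38715, (fun u => chkFix tab mwordsA u) u = true := ext_range (a := 38570) (len := 145) h266 m2_266
  have h268 : ∀ u < 38860, (fun u => chkFix tab mwordsA u) u = true := ext_range (a := 38715) (len := 145) h267 m2_267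
  have h269 : ∀ u < 39005, (fun u => chkFix tab mwordsA u) u = true := ext_range (a := 38860) (len := 145) h268 m2_268
  have h270 : ∀ u < 39150, (fun u => chkFix tab mwordsA u) u = true := ext_range (a := 39005) (len := 145) h269 m2_269
  have h271 : ∀ u < 39295, (fun u => chkFix tab mwordsA u) u = true := ext_range (a := 39150) (len := 145) h270 m2_270
  have h272 : ∀ u < 39440, (fun u => chkFix tab mwordsA u) u = true := ext_range (a := 39295) (len := 145) h271 m2_271
  have h273 : ∀ u < 39585, (fun u => chkFix tab mwordsA u) u = true := ext_range (a := 39440) (len := 145) h272 m2_272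
  have h274 : ∀ u < 39730, (fun u => chkFix tab mwordsA u) u = true := ext_range (a := 39585) (len := 145) h273 m2_273
  have h275 : ∀ u < 39875, (fun u => chkFix tab mwordsA u) u = true := ext_range (a := 39730) (len := 145) h274 m2_274
  have h276 : ∀ u < 40020, (fun u => chkFix tab mwordsA u) u = true := ext_range (a := 39875) (len := 145) h275 m2_275
  have h277 : ∀ u < 40165, (fun u => chkFix tab mwordsA u) u = true := ext_range (a := 40020) (len := 145) h276 m2_276
  have h278 : ∀ u < 40310, (fun u => chkFix tab mwordsA u) u = true := ext_range (a := 40165) (len := 145) h277 m2_277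
  have h279 : ∀ u < 40455, (fun u => chkFix tab mwordsA u) u = true := ext_range (a := 40310) (len := 145) h278 m2_278
  have h280 : ∀ u < 40600, (fun u => chkFix tab mwordsA u) u = true := ext_range (a := 40455) (len := 145) h279 m2_279
  have h281 : ∀ u < 40745, (fun u => chkFix tab mwordsA u) u = true := ext_range (a := 40600) (len := 145) h280 m2_280
  have h282 : ∀ u < 40890, (fun u => chkFix tab mwordsA u) u = true := ext_range (a := 40745) (len := 145) h281 m2_281
  have h283 : ∀ u < 41035, (fun u => chkFix tab mwordsA u) u = true := ext_range (a := 40890) (len := 145) h282 m2_282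
  have h284 : ∀ u < 41180, (fun u => chkFix tab mwordsA u) u = true := ext_range (a := 41035) (len := 145) h283 m2_283
  have h285 : ∀ u < 41325, (fun u => chkFix tab mwordsA u) u = true := ext_range (a := 41180) (len := 145) h284 m2_284
  have h286 : ∀ u < 41470, (fun u => chkFix tab mwordsA u) u = true := ext_range (a := 41325) (len := 145) h285 m2_285
  have h287 : ∀ u < 41615, (fun u => chkFix tab mwordsA u) u = true := ext_range (a := 41470) (len := 145) h286 m2_286
  have h288 : ∀ u < 41760, (fun u => chkFix tab mwordsA u) u = true := ext_range (a := 41615) (len := 145) h287 m2_287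
  have h289 : ∀ u < 41905, (fun u => chkFix tab mwordsA u) u = true := ext_range (a := 41760) (len := 145) h288 m2_288
  have h290 : ∀ u < 42050, (fun u => chkFix tab mwordsA u) u = true := ext_range (a := 41905) (len := 145) h289 m2_289
  have h291 : ∀ u < 42195, (fun u => chkFix tab mwordsA u) u = true := ext_range (a := 42050) (len := 145) h290 m2_290
  have h292 : ∀ u < 42340, (fun u => chkFix tab mwordsA u) u = true := ext_range (a := 42195) (len := 145) h291 m2_291
  have h293 : ∀ u < 42485, (fun u => chkFix tab mwordsA u) u = true := ext_range (a := 42340) (len := 145) h292 m2_292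
  have h294 : ∀ u < 42630, (fun u => chkFix tab mwordsA u) u = true := ext_range (a := 42485) (len := 145) h293 m2_293
  have h295 : ∀ u < 42775, (fun u => chkFix tab mwordsA u) u = true := ext_range (a := 42630) (len := 145) h294 m2_294
  have h296 : ∀ u < 42920, (fun u => chkFix tab mwordsA u) u = true := ext_range (a := 42775) (len := 145) h295 m2_295
  have h297 : ∀ u < 43065, (fun u => chkFix tab mwordsA u) u = true := ext_range (a := 42920) (len := 145) h296 m2_296
  have h298 : ∀ u < 43210, (fun u => chkFix tab mwordsA u) u = true := ext_range (a := 43065) (len := 145) h297 m2_297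
  have h299 : ∀ u < 43355, (fun u => chkFix tab mwordsA u) u = true := ext_range (a := 43210) (len := 145) h298 m2_298
  have h300 : ∀ u < 43500, (fun u => chkFix tab mwordsA u) u = true := ext_range (a := 43355) (len := 145) h299 m2_299
  have h301 : ∀ u < 43645, (fun u => chkFix tab mwordsA u) u = true := ext_range (a := 43500) (len := 145) h300 m2_300
  have h302 : ∀ u < 43790, (fun u => chkFix tab mwordsA u) u = true := ext_range (a := 43645) (len := 145) h301 m2_301
  have h303 : ∀ u < 43935, (fun u => chkFix tab mwordsA u) u = true := ext_range (a := 43790) (len := 145) h302 m2_302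
  have h304 : ∀ u < 44080, (fun u => chkFix tab mwordsA u) u = true := ext_range (a := 43935) (len := 145) h303 m2_303
  have h305 : ∀ u < 44225, (fun u => chkFix tab mwordsA u) u = true := ext_range (a := 44080) (len := 145) h304 m2_304
  have h306 : ∀ u < 44370, (fun u => chkFix tab mwordsA u) u = true := ext_range (a := 44225) (len := 145) h305 m2_305
  have h307 : ∀ u < 44515, (fun u => chkFix tab mwordsA u) u = true := ext_range (a := 44370) (len := 145) h306 m2_306
  have h308 : ∀ u < 44660, (fun u => chkFix tab mwordsA u) u = true := ext_range (a := 44515) (len := 145) h307 m2_307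
  have h309 : ∀ u < 44805, (fun u => chkFix tab mwordsA u) u = true := ext_range (a := 44660) (len := 145) h308 m2_308
  have h310 : ∀ u < 44950, (fun u => chkFix tab mwordsA u) u = true := ext_range (a := 44805) (len := 145) h309 m2_309
  have h311 : ∀ u < 45095, (fun u => chkFix tab mwordsA u) u = true := ext_range (a := 44950) (len := 145) h310 m2_310
  have h312 : ∀ u < 45240, (fun u => chkFix tab mwordsA u) u = true := ext_range (a := 45095) (len := 145) h311 m2_311
  have h313 : ∀ u < 45385, (fun u => chkFix tab mwordsA u) u = true := ext_range (a := 45240) (len := 145) h312 m2_312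
  have h314 : ∀ u < 45530, (fun u => chkFix tab mwordsA u) u = true := ext_range (a := 45385) (len := 145) h313 m2_313
  have h315 : ∀ u < 45675, (fun u => chkFix tab mwordsA u) u = true := ext_range (a := 45530) (len := 145) h314 m2_314
  have h316 : ∀ u < 45820, (fun u => chkFix tab mwordsA u) u = true := ext_range (a := 45675) (len := 145) h315 m2_315
  have h317 : ∀ u < 45965, (fun u => chkFix tab mwordsA u) u = true := ext_range (a := 45820) (len := 145) h316 m2_316
  have h318 : ∀ u < 46110, (fun u => chkFix tab mwordsA u) u = true := ext_range (a := 45965) (len := 145) h317 m2_317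
  have h319 : ∀ u < 46255, (fun u => chkFix tab mwordsA u) u = true := ext_range (a := 46110) (len := 145) h318 m2_318
  have h320 : ∀ u < 46400, (fun u => chkFix tab mwordsA u) u = true := ext_range (a := 46255) (len := 145) h319 m2_319
  have h321 : ∀ u < 46545, (fun u => chkFix tab mwordsA u) u = true := ext_range (a := 46400) (len := 145) h320 m2_320
  have h322 : ∀ u < 46690, (fun u => chkFix tab mwordsA u) u = true := ext_range (a := 46545) (len := 145) h321 m2_321
  have h323 : ∀ u < 46835, (fun u => chkFix tab mwordsA u) u = true := ext_range (a := 46690) (len := 145) h322 m2_322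
  have h324 : ∀ u < 46980, (fun u => chkFix tab mwordsA u) u = true := ext_range (a := 46835) (len := 145) h323 m2_323
  have h325 : ∀ u < 47125, (fun u => chkFix tab mwordsA u) u = true := ext_range (a := 46980) (len := 145) h324 m2_324
  have h326 : ∀ u < 47270, (fun u => chkFix tab mwordsA u) u = true := ext_range (a := 47125) (len := 145) h325 m2_325
  have h327 : ∀ u < 47415, (fun u => chkFix tab mwordsA u) u = true := ext_range (a := 47270) (len := 145) h326 m2_326
  have h328 : ∀ u < 47560, (fun u => chkFix tab mwordsA u) u = true := ext_range (a := 47415) (len := 145) h327 m2_327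
  have h329 : ∀ u < 47705, (fun u => chkFix tab mwordsA u) u = true := ext_range (a := 47560) (len := 145) h328 m2_328
  have h330 : ∀ u < 47850, (fun u => chkFix tab mwordsA u) u = true := ext_range (a := 47705) (len := 145) h329 m2_329
  have h331 : ∀ u < 47995, (fun u => chkFix tab mwordsA u) u = true := ext_range (a := 47850) (len := 145) h330 m2_330
  have h332 : ∀ u < 48140, (fun u => chkFix tab mwordsA u) u = true := ext_range (a := 47995) (len := 145) h331 m2_331
  have h333 : ∀ u < 48285, (fun u => chkFix tab mwordsA u) u = true := ext_range (a := 48140) (len := 145) h332 m2_332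
  have h334 : ∀ u < 48430, (fun u => chkFix tab mwordsA u) u = true := ext_range (a := 48285) (len := 145) h333 m2_333
  have h335 : ∀ u < 48575, (fun u => chkFix tab mwordsA u) u = true := ext_range (a := 48430) (len := 145) h334 m2_334
  have h336 : ∀ u < 48720, (fun u => chkFix tab mwordsA u) u = true := ext_range (a := 48575) (len := 145) h335 m2_335
  have h337 : ∀ u < 48865, (fun u => chkFix tab mwordsA u) u = true := ext_range (a := 48720) (len := 145) h336 m2_336
  have h338 : ∀ u < 49010, (fun u => chkFix tab mwordsA u) u = true := ext_range (a := 48865) (len := 145) h337 m2_337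
  have h339 : ∀ u < 49155, (fun u => chkFix tab mwordsA u) u = true := ext_range (a := 49010) (len := 145) h338 m2_338
  have h340 : ∀ u < 49300, (fun u => chkFix tab mwordsA u) u = true := ext_range (a := 49155) (len := 145) h339 m2_339
  have h341 : ∀ u < 49445, (fun u => chkFix tab mwordsA u) u = true := ext_range (a := 49300) (len := 145) h340 m2_340
  have h342 : ∀ u < 49590, (fun u => chkFix tab mwordsA u) u = true := ext_range (a := 49445) (len := 145) h341 m2_341
  have h343 : ∀ u < 49735, (fun u => chkFix tab mwordsA u) u = true := ext_range (a := 49590) (len := 145) h342 m2_342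
  have h344 : ∀ u < 49880, (fun u => chkFix tab mwordsA u) u = true := ext_range (a := 49735) (len := 145) h343 m2_343
  have h345 : ∀ u < 50025, (fun u => chkFix tab mwordsA u) u = true := ext_range (a := 49880) (len := 145) h344 m2_344
  have h346 : ∀ u < 50170, (fun u => chkFix tab mwordsA u) u = true := ext_range (a := 50025) (len := 145) h345 m2_345
  have h347 : ∀ u < 50315, (fun u => chkFix tab mwordsA u) u = true := ext_range (a := 50170) (len := 145) h346 m2_346
  have h348 : ∀ u < 50460, (fun u => chkFix tab mwordsA u) u = true := ext_range (a := 50315) (len := 145) h347 m2_347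
  have h349 : ∀ u < 50605, (fun u => chkFix tab mwordsA u) u = true := ext_range (a := 50460) (len := 145) h348 m2_348
  have h350 : ∀ u < 50750, (fun u => chkFix tab mwordsA u) u = true := ext_range (a := 50605) (len := 145) h349 m2_349
  have h351 : ∀ u < 50895, (fun u => chkFix tab mwordsA u) u = true := ext_range (a := 50750) (len := 145) h350 m2_350
  have h352 : ∀ u < 51040, (fun u => chkFix tab mwordsA u) u = true := ext_range (a := 50895) (len := 145) h351 m2_351
  have h353 : ∀ u < 51185, (fun u => chkFix tab mwordsA u) u = true := ext_range (a := 51040) (len := 145) h352 m2_352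
  have h354 : ∀ u < 51330, (fun u => chkFix tab mwordsA u) u = true := ext_range (a := 51185) (len := 145) h353 m2_353
  have h355 : ∀ u < 51475, (fun u => chkFix tab mwordsA u) u = true := ext_range (a := 51330) (len := 145) h354 m2_354
  have h356 : ∀ u < 51620, (fun u => chkFix tab mwordsA u) u = true := ext_range (a := 51475) (len := 145) h355 m2_355
  have h357 : ∀ u < 51765, (fun u => chkFix tab mwordsA u) u = true := ext_range (a := 51620) (len := 145) h356 m2_356
  have h358 : ∀ u < 51910, (fun u => chkFix tab mwordsA u) u = true := ext_range (a := 51765) (len := 145) h357 m2_357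
  have h359 : ∀ u < 52055, (fun u => chkFix tab mwordsA u) u = true := ext_range (a := 51910) (len := 145) h358 m2_358
  have h360 : ∀ u < 52200, (fun u => chkFix tab mwordsA u) u = true := ext_range (a := 52055) (len := 145) h359 m2_359
  have h361 : ∀ u < 52345, (fun u => chkFix tab mwordsA u) u = true := ext_range (a := 52200) (len := 145) h360 m2_360
  have h362 : ∀ u < 52490, (fun u => chkFix tab mwordsA u) u = true := ext_range (a := 52345) (len := 145) h361 m2_361
  have h363 : ∀ u < 52635, (fun u => chkFix tab mwordsA u) u = true := ext_range (a := 52490) (len := 145) h362 m2_362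
  have h364 : ∀ u < 52780, (fun u => chkFix tab mwordsA u) u = true := ext_range (a := 52635) (len := 145) h363 m2_363
  have h365 : ∀ u < 52925, (fun u => chkFix tab mwordsA u) u = true := ext_range (a := 52780) (len := 145) h364 m2_364
  have h366 : ∀ u < 53070, (fun u => chkFix tab mwordsA u) u = true := ext_range (a := 52925) (len := 145) h365 m2_365
  have h367 : ∀ u < 53215, (fun u => chkFix tab mwordsA u) u = true := ext_range (a := 53070) (len := 145) h366 m2_366
  have h368 : ∀ u < 53360, (fun u => chkFix tab mwordsA u) u = true := ext_range (a := 53215) (len := 145) h367 m2_367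
  have h369 : ∀ u < 53505, (fun u => chkFix tab mwordsA u) u = true := ext_range (a := 53360) (len := 145) h368 m2_368
  have h370 : ∀ u < 53650, (fun u => chkFix tab mwordsA u) u = true := ext_range (a := 53505) (len := 145) h369 m2_369
  have h371 : ∀ u < 53795, (fun u => chkFix tab mwordsA u) u = true := ext_range (a := 53650) (len := 145) h370 m2_370
  have h372 : ∀ u < 53940, (fun u => chkFix tab mwordsA u) u = true := ext_range (a := 53795) (len := 145) h371 m2_371
  have h373 : ∀ u < 54085, (fun u => chkFix tab mwordsA u) u = true := ext_range (a := 53940) (len := 145) h372 m2_372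
  have h374 : ∀ u < 54230, (fun u => chkFix tab mwordsA u) u = true := ext_range (a := 54085) (len := 145) h373 m2_373
  have h375 : ∀ u < 54375, (fun u => chkFix tab mwordsA u) u = true := ext_range (a := 54230) (len := 145) h374 m2_374
  have h376 : ∀ u < 54520, (fun u => chkFix tab mwordsA u) u = true := ext_range (a := 54375) (len := 145) h375 m2_375
  have h377 : ∀ u < 54665, (fun u => chkFix tab mwordsA u) u = true := ext_range (a := 54520) (len := 145) h376 m2_376
  have h378 : ∀ u < 54810, (fun u => chkFix tab mwordsA u) u = true := ext_range (a := 54665) (len := 145) h377 m2_377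
  have h379 : ∀ u < 54955, (fun u => chkFix tab mwordsA u) u = true := ext_range (a := 54810) (len := 145) h378 m2_378
  have h380 : ∀ u < 55100, (fun u => chkFix tab mwordsA u) u = true := ext_range (a := 54955) (len := 145) h379 m2_379
  have h381 : ∀ u < 55245, (fun u => chkFix tab mwordsA u) u = true := ext_range (a := 55100) (len := 145) h380 m2_380
  have h382 : ∀ u < 55390, (fun u => chkFix tab mwordsA u) u = true := ext_range (a := 55245) (len := 145) h381 m2_381
  have h383 : ∀ u < 55535, (fun u => chkFix tab mwordsA u) u = true := ext_range (a := 55390) (len := 145) h382 m2_382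
  have h384 : ∀ u < 55680, (fun u => chkFix tab mwordsA u) u = true := ext_range (a := 55535) (len := 145) h383 m2_383
  have h385 : ∀ u < 55825, (fun u => chkFix tab mwordsA u) u = true := ext_range (a := 55680) (len := 145) h384 m2_384
  have h386 : ∀ u < 55970, (fun u => chkFix tab mwordsA u) u = true := ext_range (a := 55825) (len := 145) h385 m2_385
  have h387 : ∀ u < 56115, (fun u => chkFix tab mwordsA u) u = true := ext_range (a := 55970) (len := 145) h386 m2_386
  have h388 : ∀ u < 56260, (fun u => chkFix tab mwordsA u) u = true := ext_range (a := 56115) (len := 145) h387 m2_387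
  have h389 : ∀ u < 56405, (fun u => chkFix tab mwordsA u) u = true := ext_range (a := 56260) (len := 145) h388 m2_388
  have h390 : ∀ u < 56550, (fun u => chkFix tab mwordsA u) u = true := ext_range (a := 56405) (len := 145) h389 m2_389
  have h391 : ∀ u < 56695, (fun u => chkFix tab mwordsA u) u = true := ext_range (a := 56550) (len := 145) h390 m2_390
  have h392 : ∀ u < 56840, (fun u => chkFix tab mwordsA u) u = true := ext_range (a := 56695) (len := 145) h391 m2_391
  have h393 : ∀ u < 56985, (fun u => chkFix tab mwordsA u) u = true := ext_range (a := 56840) (len := 145) h392 m2_392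
  have h394 : ∀ u < 57130, (fun u => chkFix tab mwordsA u) u = true := ext_range (a := 56985) (len := 145) h393 m2_393
  have h395 : ∀ u < 57275, (fun u => chkFix tab mwordsA u) u = true := ext_range (a := 57130) (len := 145) h394 m2_394
  have h396 : ∀ u < 57420, (fun u => chkFix tab mwordsA u) u = true := ext_range (a := 57275) (len := 145) h395 m2_395
  have h397 : ∀ u < 57565, (fun u => chkFix tab mwordsA u) u = true := ext_range (a := 57420) (len := 145) h396 m2_396
  have h398 : ∀ u < 57710, (fun u => chkFix tab mwordsA u) u = true := ext_range (a := 57565) (len := 145) h397 m2_397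
  have h399 : ∀ u < 57855, (fun u => chkFix tab mwordsA u) u = true := ext_range (a := 57710) (len := 145) h398 m2_398
  have h400 : ∀ u < 58000, (fun u => chkFix tab mwordsA u) u = true := ext_range (a := 57855) (len := 145) h399 m2_399
  have h401 : ∀ u < 58145, (fun u => chkFix tab mwordsA u) u = true := ext_range (a := 58000) (len := 145) h400 m2_400
  have h402 : ∀ u < 58290, (fun u => chkFix tab mwordsA u) u = true := ext_range (a := 58145) (len := 145) h401 m2_401
  have h403 : ∀ u < 58435, (fun u => chkFix tab mwordsA u) u = true := ext_range (a := 58290) (len := 145) h402 m2_402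
  have h404 : ∀ u < 58520, (fun u => chkFix tab mwordsA u) u = true := ext_range (a := 58435) (len := 85) h403 m2_403
  exact h404

theorem hE : ∀ c < 4, ∀ u < 62512, chkE tab c u = true := by
  intro c hc
  interval_cases c
  · exact hE0
  · exact hE1
  · exact hE2
  · exact hE3

end Cfsg.Agent.Helper9.TCData.J1A0
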