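import Cfsg.Agent.Lib.Helper9.TCData.J1A0.Main

set_option autoImplicit false
set_option maxRecDepth 1000000

namespace Cfsg.Agent.Helper9.TCData.J1A0
open Cfsg.Agent.Helper9.TC2

theorem f_88 : allRange 50336 572 (fun u => chkFin tab u) = true := by decide +kernel

theorem f_89 : allRange 50908 572 (fun u => chkFin tab u) = true := by decide +kernel

theorem f_90 : allRange 51480 572 (fun u => chkFin tab u) = true := by decide +kernel

theorem f_91 : allRange 52052 572 (fun u => chkFin tab u) = true := by decide +kernel

theorem f_92 : allRange 52624 572 (fun u => chkFin tab u) = true := by decide +kernel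

theorem f_93 : allRange 53196 572 (fun u => chkFin tab u) = true := by decide +kernel

theorem f_94 : allRange 53768 572 (fun u => chkFin tab u) = true := by decide +kernel

theorem f_95 : allRange 54340 572 (fun u => chkFin tab u) = true := by decide +kernel


end Cfsg.Agent.Helper9.TCData.J1A0
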