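import Cfsg.Agent.Lib.Helper9.TCData.J1A0.Main

set_option autoImplicit false
set_option maxRecDepth 1000000

namespace Cfsg.Agent.Helper9.TCData.J1A0
open Cfsg.Agent.Helper9.TC2

theorem ma_17 : allRange 13090 770 (fun u => chkAux tab aux u) = true := by decide +kernel

theorem ma_18 : allRange 13860 770 (fun u => chkAux tab aux u) = true := by decide +kernel

theorem ma_19 : allRange 14630 770 (fun u => chkAux tab aux u) = true := by decide +kernel

theorem ma_20 : allRange 15400 770 (fun u => chkAux tab aux u) = true := by decide +kernel

theorem ma_21 : allRange 16170 770 (fun u => chkAux tab aux u) = true := by decide +kernel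

theorem ma_22 : allRange 16940 770 (fun u => chkAux tab aux u) = true := by decide +kernel

theorem ma_23 : allRange 17710 770 (fun u => chkAux tab aux u) = true := by decide +kernel

theorem ma_24 : allRange 18480 770 (fun u => chkAux tab aux u) = true := by decide +kernel


end Cfsg.Agent.Helper9.TCData.J1A0
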