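import Cfsg.Agent.Lib.Helper9.TCData.J1A0.Main

set_option autoImplicit false
set_option maxRecDepth 1000000

namespace Cfsg.Agent.Helper9.TCData.J1A0
open Cfsg.Agent.Helper9.TC2

theorem m2_37 : allRange 5365 145 (fun u => chkFix tab mwordsA u) = true := by decide +kernel

theorem m2_38 : allRange 5510 145 (fun u => chkFix tab mwordsA u) = true := by decide +kernel

theorem m2_39 : allRange 5655 145 (fun u => chkFix tab mwordsA u) = true := by decide +kernel

theorem m2_40 : allRange 5800 145 (fun u => chkFix tab mwordsA u) = true := by decide +kernel

theorem m2_41 : allRange 5945 145 (fun u => chkFix tab mwordsA u) = true := by decide +kernel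

theorem m2_42 : allRange 6090 145 (fun u => chkFix tab mwordsA u) = true := by decide +kernel

theorem m2_43 : allRange 6235 145 (fun u => chkFix tab mwordsA u) = true := by decide +kernel

theorem m2_44 : allRange 6380 145 (fun u => chkFix tab mwordsA u) = true := by decide +kernel


end Cfsg.Agent.Helper9.TCData.J1A0
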